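import Cfsg.Agent.Lib.SFourClosed.Strong

/-!
The strongly closed elementary abelian subgroup.

Main results (namespace `Cfsg.Agent.SFourClosed`):
* `bound_of_fix`: `Bound A` when every 2-core of `N(A)/C(A)` is trivial;
* `setting_normalClosure`: the normal closure of `Ω₁(Z(S))` in `N(J(S))` is a `Setting`.
-/

set_option autoImplicit false
set_option linter.unusedSectionVars false
set_option linter.style.haveILetI false

namespace Cfsg.Agent.SFourClosed

open AlperinFamily

universe u

theorem elemAb_subgroupOf {G : Type*} [Group G] {A : Subgroup G} (h : Cfsg.IsElementaryAbelian 2 A)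
    (H : Subgroup G) : Cfsg.IsElementaryAbelian 2 (A.subgroupOf H) :=
  ⟨⟨⟨fun a b => Subtype.ext (Subtype.ext (JComp.elem_comm h a.2 b.2))⟩⟩, fun a ha => Subtype.ext (h.2 a ha)⟩

/-- The bound, when the group induced by `N(A)` is reduced. -/
theorem bound_of_fix {G : Type u} [Group G] [Finite G] (hfree : ¬ Cfsg.Involves (Equiv.Perm (Fin 4)) G)
    (hsec : SecBound G) (S : Sylow 2 G) {A : Subgroup G} (hA : Cfsg.IsElementaryAbelian 2 A)
    (hAS : A ≤ (S : Subgroup G)) (hSA : (S : Subgroup G) ≤ Subgroup.normalizer (A : Set G))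
    (hred : ∀ P : Subgroup ↥(Subgroup.normalizer (A : Set G)), P.Normal →
      PReduced.pMod 2 ((Subgroup.centralizer (A : Set G)).subgroupOf (Subgroup.normalizer (A : Set G))) P →
        P ≤ (Subgroup.centralizer (A : Set G)).subgroupOf (Subgroup.normalizer (A : Set G))) :
    Bound A := by
  haveI : Fact (Nat.Prime 2) := ⟨Nat.prime_two⟩
  set N := Subgroup.normalizer (A : Set G) with hN
  set V := A.subgroupOf N with hV
  haveI : V.Normal := Subgroup.normal_subgroupOf_of_le_normalizer le_rfl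
  have hAN : A ≤ N := hAS.trans hSA
  set φ : ↥N →* MulAut ↥V := MulAut.conjNormal with hφ
  have hker : φ.ker = (Subgroup.centralizer (A : Set G)).subgroupOf N := by
    rw [← centralizer_subgroupOf hAN]
    ext g
    rw [MonoidHom.mem_ker, Subgroup.mem_centralizer_iff]
    refine ⟨fun h v hv => ?_, fun h => MulEquiv.ext fun v => Subtype.ext ?_⟩
    · have := congrArg Subtype.val (DFunLike.congr_fun h (⟨v, hv⟩ : ↥V))
      rw [hφ, MulAut.conjNormal_apply] at this
      exact (mul_inv_eq_iff_eq_mul.1 this).symm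
    · rw [hφ, MulAut.conjNormal_apply, ← h v v.2, mul_inv_cancel_right]
      rfl
  have hO : Cfsg.pCore 2 ↥φ.range = ⊥ := by
    rw [eq_bot_iff]
    intro q hq
    set P := (Cfsg.pCore 2 ↥φ.range).comap φ.rangeRestrict with hP
    obtain ⟨g, rfl⟩ := φ.rangeRestrict_surjective q
    have hg : g ∈ (Subgroup.centralizer (A : Set G)).subgroupOf N := by
      refine hred P ((Cores.pCore_normal 2 _).comap _) (fun p hp => ?_) hq
      obtain ⟨k, hk⟩ := Cores.isPGroup_pCore 2 ↥φ.range ⟨φ.rangeRestrict p, hp⟩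
      refine ⟨k, ?_⟩
      rw [← hker, MonoidHom.mem_ker, map_pow]
      exact congrArg (fun z : ↥(Cfsg.pCore 2 ↥φ.range) => ((z : ↥φ.range) : MulAut ↥V)) hk
    rw [← hker] at hg
    exact Subgroup.mem_bot.2 (Subtype.ext hg)
  have hk2 : Subgroup.centralizer (V : Set ↥N) ≤ φ.rangeRestrict.ker := by
    rw [MonoidHom.ker_rangeRestrict, hker, centralizer_subgroupOf hAN]
  have hB := (hsec.subgroup N).image (not_involves_subgroup hfree N) (elemAb_subgroupOf hA N)
    φ.rangeRestrict φ.rangeRestrict_surjective hk2 hO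
  intro R hR hR2 hc hs
  have h3 := bound_of_actBound φ (fun v w => Subtype.ext (JComp.elem_comm (elemAb_subgroupOf hA N) v.2 w.2))
    (fun v => Subtype.ext (JComp.elem_mul_self (elemAb_subgroupOf hA N) v.2)) hB (R.subgroupOf N)
    (fun r hr s hs' => by
      have h : r * s * r⁻¹ * s⁻¹ ∈ φ.ker := by rw [hker]; exact hc r hr s hs'
      rw [MonoidHom.mem_ker, map_mul, map_mul, map_mul, map_inv, map_inv, mul_inv_eq_one, mul_inv_eq_iff_eq_mul] at h
      exact h)
    (fun r hr => by
      have h : r * r ∈ φ.ker := by rw [hker]; exact hs r hr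
      rwa [MonoidHom.mem_ker, map_mul] at h)
  rw [hker, Subgroup.relIndex_subgroupOf hR] at h3
  refine h3.trans ?_
  have h4 : (((Subgroup.centralizer (R : Set G)).subgroupOf N).subgroupOf V) ≤ fixSub φ (R.subgroupOf N) := by
    intro v hv r hr
    refine Subtype.ext (Subtype.ext ?_)
    rw [hφ, MulAut.conjNormal_apply]
    show (r : G) * ((v : ↥N) : G) * (r : G)⁻¹ = ((v : ↥N) : G)
    have hh : (r : G) * ((v : ↥N) : G) = ((v : ↥N) : G) * (r : G) := Subgroup.mem_centralizer_iff.1 hv (r : G) hr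
    rw [hh, mul_inv_cancel_right]
  refine (Subgroup.index_antitone h4).trans (le_of_eq ?_)
  exact Subgroup.relIndex_subgroupOf hAN

section
variable {G : Type u} [Group G] [Finite G] (S : Sylow 2 G)

theorem omega_le_maxElem {B : Subgroup G} (hB : B ∈ JComp.maxElem (S : Subgroup G)) :
    Cfsg.omegaOne 2 ((S : Subgroup G) ⊓ Subgroup.centralizer ((S : Subgroup G) : Set G)) ≤ B :=
  (Subgroup.closure_le _).2 fun _ hx =>
    PLocal.mem_of_centralizes hB hx.1.1 hx.2 (Subgroup.centralizer_le hB.1 hx.1.2)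

/-- The normal closure of `Ω₁(Z(S))` in `N(J(S))`. -/
theorem setting_normalClosure (hfree : ¬ Cfsg.Involves (Equiv.Perm (Fin 4)) G) (hsec : SecBound G)
    {N : Subgroup G} (hN : N = Subgroup.normalizer (Cfsg.thompsonSubgroupOf 2 (S : Subgroup G) : Set G))
    {A : Subgroup G}
    (hA : A = (Subgroup.normalClosure (((Cfsg.omegaOne 2 ((S : Subgroup G) ⊓
      Subgroup.centralizer ((S : Subgroup G) : Set G))).subgroupOf N : Subgroup ↥N) : Set ↥N)).map N.subtype) :
    Setting S A := by
  haveI : Fact (Nat.Prime 2) := ⟨Nat.prime_two⟩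
  set J := Cfsg.thompsonSubgroupOf 2 (S : Subgroup G) with hJ
  set Z := Cfsg.omegaOne 2 ((S : Subgroup G) ⊓ Subgroup.centralizer ((S : Subgroup G) : Set G)) with hZ
  have hSN : (S : Subgroup G) ≤ N := hN ▸ Subgroup.le_normalizer.trans
    (PLocal.normalizer_le_normalizer_thompsonSubgroupOf _)
  have hperm : ∀ n ∈ N, ∀ B ∈ JComp.maxElem (S : Subgroup G), cj n B ∈ JComp.maxElem (S : Subgroup G) := by
    intro n hn B hB
    have hle : cj n B ≤ (S : Subgroup G) := by
      refine ((Subgroup.map_mono (JComp.le_jOf hB)).trans ?_).trans (JComp.jOf_le _)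
      exact (cj_eq_iff.2 (hN ▸ hn)).le
    exact ⟨hle, (PLocal.elemAb_map_iff_of_injOn (MulAut.conj n).injective.injOn le_rfl).2 hB.2.1,
      fun C hC hCe => (hB.2.2 C hC hCe).trans (card_cj n B).ge⟩
  have hAB : ∀ B ∈ JComp.maxElem (S : Subgroup G), A ≤ B := by
    intro B hB
    rw [hA, Subgroup.map_le_iff_le_comap, Subgroup.normalClosure, Subgroup.closure_le]
    intro c hc
    obtain ⟨z, hz, hzc⟩ := Group.mem_conjugatesOfSet_iff.1 hc
    obtain ⟨n, rfl⟩ := isConj_iff.1 hzc
    show (n : G) * (z : G) * (n : G)⁻¹ ∈ B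
    have h1 := omega_le_maxElem S (hperm (n : G)⁻¹ (N.inv_mem n.2) B hB) hz
    rw [mem_cj] at h1
    simpa using h1
  obtain ⟨B0, hB0⟩ := JComp.exists_maxElem (S : Subgroup G)
  have hAe : Cfsg.IsElementaryAbelian 2 A := PLocal.elemAb_mono hB0.2.1 (hAB B0 hB0)
  have hAS : A ≤ (S : Subgroup G) := (hAB B0 hB0).trans hB0.1
  have hcent : J ≤ Subgroup.centralizer (A : Set G) := JComp.jOf_le_iff.2 fun B hB =>
    (PLocal.elemAb_le_centralizer hB.2.1).trans (Subgroup.centralizer_le (hAB B hB))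
  have hNA : N ≤ Subgroup.normalizer (A : Set G) := by
    intro n hn
    refine cj_eq_iff.1 (Subgroup.eq_of_le_of_card_ge ?_ (card_cj n A).ge)
    rw [hA]
    rintro _ ⟨_, ⟨a, ha, rfl⟩, rfl⟩
    exact ⟨⟨n, hn⟩ * a * ⟨n, hn⟩⁻¹, Subgroup.normalClosure_normal.conj_mem a ha _, rfl⟩
  have hSA : (S : Subgroup G) ≤ Subgroup.normalizer (A : Set G) := hSN.trans hNA
  have hbd : Bound A := by
    refine bound_of_fix hfree hsec S hAe hAS hSA ?_
    set NA := Subgroup.normalizer (A : Set G)
    set C := (Subgroup.centralizer (A : Set G)).subgroupOf NA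
    intro P hPn hmod p hp
    haveI := hPn
    haveI hCn : C.Normal := by
      refine ⟨fun c hc g => ?_⟩
      have h1 := conj_mem_cj (g : G) (H := Subgroup.centralizer (A : Set G)) (x := (c : G)) hc
      rw [cj_cent, cj_eq_iff.2 g.2] at h1
      exact h1
    haveI : (C ⊔ P).Normal := inferInstance
    have hdec : C ⊔ P = C ⊔ (((S.subtype hSA : Sylow 2 ↥NA) : Subgroup ↥NA) ⊓ (C ⊔ P)) :=
      PReduced.eq_sup_sylow_inf_of_pMod _ le_sup_left (by rw [sup_comm]; exact PReduced.pMod_sup hmod)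
    -- `C ⊔ P` centralises `Ω₁(Z(S))`
    have hZA : Z ≤ A := by
      rw [hA]
      intro z hz
      exact ⟨⟨z, hSN ((PLocal.omegaOne_le _ hz).1)⟩, Subgroup.subset_normalClosure (by exact hz), rfl⟩
    have hfix : ∀ q ∈ C ⊔ P, (q : G) ∈ Subgroup.centralizer (Z : Set G) := by
      intro q hq
      have hle : C ⊔ P ≤ (Subgroup.centralizer (Z : Set G)).subgroupOf NA := by
        rw [hdec]
        refine sup_le (Subgroup.comap_mono (Subgroup.centralizer_le hZA)) (inf_le_left.trans (Subgroup.comap_mono ?_))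
        exact le_cent_comm fun z hz => (PLocal.omegaOne_le _ hz).2
      exact hle hq
    show (p : G) ∈ Subgroup.centralizer (A : Set G)
    refine le_cent_comm ?_ (Subgroup.mem_zpowers (p : G))
    rw [hA, Subgroup.map_le_iff_le_comap, Subgroup.normalClosure, Subgroup.closure_le]
    intro c hc
    obtain ⟨z, hz, hzc⟩ := Group.mem_conjugatesOfSet_iff.1 hc
    obtain ⟨n, rfl⟩ := isConj_iff.1 hzc
    set n' : ↥NA := ⟨(n : G), hNA n.2⟩
    have h1 : (n' : G)⁻¹ * (p : G) * (n' : G) ∈ Subgroup.centralizer (Z : Set G) := by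
      have := hfix _ ((inferInstance : (C ⊔ P).Normal).conj_mem p (Subgroup.mem_sup_right hp) n'⁻¹)
      simpa using this
    refine Subgroup.mem_centralizer_iff.2 fun q hq => ?_
    obtain ⟨i, rfl⟩ := Subgroup.mem_zpowers_iff.1 hq
    have h2 : Commute ((n : G)⁻¹ * (p : G) * (n : G)) (z : G) := (Subgroup.mem_centralizer_iff.1 h1 (z : G) hz).symm
    have h3 : Commute (p : G) ((n : G) * (z : G) * (n : G)⁻¹) := by
      have := h2.map (MulAut.conj (n : G)).toMonoidHom
      simpa [mul_assoc] using this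
    exact (h3.zpow_left i).eq
  have hyp : Hyp S A := ⟨hAe, hAS, hSA, hcent, hN ▸ hNA, hbd⟩
  exact ⟨hyp, fun g hg => eq_of_cj_le_normalizer hfree hsec hyp hg⟩

end

end Cfsg.Agent.SFourClosed
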