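import Cfsg.Agent.Lib.SFourClosed.Basic
import Cfsg.Agent.Lib.FunctorControl.NormalComplement
import Cfsg.Agent.Lib.Transfer.Residual
import Cfsg.Agent.Lib.Transfer.Centric
import Cfsg.Agent.Lib.PReduced.Tools
import Cfsg.Agent.S2752
import Cfsg.Agent.S2759

/-!
The group induced on a normal elementary abelian 2-subgroup.

Main results (namespace `Cfsg.Agent.SFourClosed`):
* `secComp_of`: the section hypothesis from its quotient form;
* `bound_of_hom`: the 2F bound for an action with reduced, `S₃`-free image;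
* `range_props`: images of `G / C(V)` are `S₃`-free with the restricted composition factors;
* `ActBound X`, `SecBound G`: the 2F bound for faithful actions of `X`, and for the reduced section
  actions of `G`; `bound_of_actBound`, `secBound_of_secComp`.
-/

set_option autoImplicit false
set_option linter.unusedSectionVars false
set_option linter.style.haveILetI false

namespace Cfsg.Agent.SFourClosed

open AlperinFamily

universe u

theorem comps_of_surjective {X Y : Type u} [Group X] [Group Y] (f : X →* Y) (hf : Function.Surjective f)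
    (h : Cfsg.IsCompositionKGroupWith Cfsg.IsSuzukiOrPSL2OddPowerThree X) :
    Cfsg.IsCompositionKGroupWith Cfsg.IsSuzukiOrPSL2OddPowerThree Y := by
  intro H hH N _ hs hn
  let g := f.subgroupComap H
  have hg : Function.Surjective g := f.subgroupComap_surjective_of_surjective H hf
  let q : ↥(H.comap f) →* ↥H ⧸ N := (QuotientGroup.mk' N).comp g
  let e := QuotientGroup.quotientKerEquivOfSurjective q ((QuotientGroup.mk'_surjective N).comp hg)
  haveI := hs
  have h1 := h (H.comap f) (hH.comap f) q.ker (MulEquiv.isSimpleGroup e)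
    (fun hc => hn (haveI := hc; ⟨⟨fun u v => e.symm.injective (by rw [map_mul, map_mul]; exact hc.1.1 _ _)⟩⟩))
  rcases h1 with ⟨F, i1, i2, m, hm, hF, ⟨e'⟩⟩ | ⟨F, i1, i2, n, hF, ⟨e'⟩⟩
  · exact Or.inl ⟨F, i1, i2, m, hm, hF, ⟨e.symm.trans e'⟩⟩
  · exact Or.inr ⟨F, i1, i2, n, hF, ⟨e.symm.trans e'⟩⟩

theorem secComp_of {G : Type u} [Group G]
    (hsec : ∀ (K R : Subgroup G) [hR : (R.subgroupOf K).Normal],
      Subgroup.centralizer (Cfsg.pCore 2 (K ⧸ R.subgroupOf K) : Set (K ⧸ R.subgroupOf K)) ≤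
          Cfsg.pCore 2 (K ⧸ R.subgroupOf K) →
        Cfsg.IsCompositionKGroupWith Cfsg.IsSuzukiOrPSL2OddPowerThree (K ⧸ R.subgroupOf K)) : SecComp G := by
  intro X _ hX hc
  obtain ⟨K, R, hR, ⟨e⟩⟩ := hX.exists_equiv
  exact comps_of_surjective e.toMonoidHom e.surjective
    (hsec K R (FunctorControl.centralizer_pCore_le_equiv e.symm hc))

/-- The fixed points of a set of automorphisms. -/
def fixSub {Γ : Type*} [Group Γ] {V : Type*} [Group V] (φ : Γ →* MulAut V) (R : Subgroup Γ) : Subgroup V where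
  carrier := {v | ∀ r ∈ R, φ r v = v}
  one_mem' := fun _ _ => map_one _
  mul_mem' := fun {a b} ha hb r hr => by rw [map_mul, ha r hr, hb r hr]
  inv_mem' := fun {a} ha r hr => by rw [map_inv, ha r hr]

/-- The 2F bound for an action with reduced `S₃`-free image. -/
theorem bound_of_hom {Γ : Type u} [Group Γ] {V : Type u} [Group V] [Finite V] (φ : Γ →* MulAut V)
    (hc : ∀ v w : V, v * w = w * v) (h2 : ∀ v : V, v * v = 1) (hO : Cfsg.pCore 2 ↥φ.range = ⊥)
    (hS : ¬ Cfsg.Involves (Equiv.Perm (Fin 3)) ↥φ.range)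
    (hK : Cfsg.IsCompositionKGroupWith Cfsg.IsSuzukiOrPSL2OddPowerThree ↥φ.range) (R : Subgroup Γ)
    (hRc : ∀ r ∈ R, ∀ s ∈ R, φ r * φ s = φ s * φ r) (hRs : ∀ r ∈ R, φ r * φ r = 1) :
    φ.ker.relIndex R ^ 2 ≤ (fixSub φ R).index := by
  haveI : Finite (MulAut V) := Finite.of_injective (fun f : MulAut V => (f : V → V)) DFunLike.coe_injective
  let W := SemidirectProduct V φ.range φ.range.subtype
  haveI : Finite W := Finite.of_equiv _ SemidirectProduct.equivProd.symm
  let inl : V →* W := SemidirectProduct.inl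
  let inr : ↥φ.range →* W := SemidirectProduct.inr
  set M := inl.range with hM
  set Gs := inr.range with hGs
  set A := (R.map φ.rangeRestrict).map inr with hA
  let e := MonoidHom.ofInjective (SemidirectProduct.inr_injective : Function.Injective inr)
  have hMn : M.Normal := by
    rw [hM, show inl.range = _ from SemidirectProduct.range_inl_eq_ker_rightHom]
    infer_instance
  have hMel : Cfsg.IsElementaryAbelian 2 M := by
    refine ⟨⟨⟨?_⟩⟩, ?_⟩
    · rintro ⟨_, a, rfl⟩ ⟨_, b, rfl⟩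
      refine Subtype.ext ?_
      show inl a * inl b = inl b * inl a
      rw [← map_mul, ← map_mul, hc]
    · rintro _ ⟨a, rfl⟩
      rw [← map_pow, pow_two, h2, map_one]
  have haut : ∀ (g : ↥φ.range) (v : V), inl ((g : MulAut V) v) = inr g * inl v * (inr g)⁻¹ := fun g v => by
    rw [← map_inv]
    exact SemidirectProduct.inl_aut g v
  have hf : Gs ⊓ Subgroup.centralizer (M : Set W) = ⊥ := by
    rw [eq_bot_iff]
    rintro _ ⟨⟨g, rfl⟩, hg⟩
    refine Subgroup.mem_bot.2 ?_
    have : g = 1 := Subtype.ext (MulEquiv.ext fun v => (SemidirectProduct.inl_injective : Function.Injective inl)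
      (by rw [haut g v, ← Subgroup.mem_centralizer_iff.1 hg (inl v) ⟨v, rfl⟩, mul_inv_cancel_right]; rfl))
    rw [this, map_one]
  have hbq := S2752.result M Gs hMel (by rw [Subgroup.normalizer_eq_top]; exact le_top) hf
    (by rw [← Cores.pCore_map_mulEquiv e 2, hO, Subgroup.map_bot])
    (fun h => hS (Involves.involves_of_surjective e.toMonoidHom e.surjective h))
    (comps_of_surjective e.toMonoidHom e.surjective hK) A (Subgroup.map_le_range _ _) ?_
  · have hcA : Nat.card A = φ.ker.relIndex R := by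
      rw [hA, Subgroup.card_map_of_injective SemidirectProduct.inr_injective, Subgroup.relIndex_ker]
      have h := Subgroup.card_map_of_injective φ.range.subtype_injective (K := R.map φ.rangeRestrict)
      rw [Subgroup.map_map, MonoidHom.subtype_comp_rangeRestrict] at h
      exact h.symm
    have hfix : (fixSub φ R).map inl ≤ M ⊓ Subgroup.centralizer (A : Set W) := by
      rintro _ ⟨v, hv, rfl⟩
      refine ⟨⟨v, rfl⟩, Subgroup.mem_centralizer_iff.2 ?_⟩
      rintro _ ⟨_, ⟨r, hr, rfl⟩, rfl⟩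
      have h := haut (φ.rangeRestrict r) v
      rw [show ((φ.rangeRestrict r : ↥φ.range) : MulAut V) v = v from hv r hr] at h
      exact (eq_mul_inv_iff_mul_eq.1 h).symm
    have h1 : Nat.card A ^ 2 * Nat.card (fixSub φ R) ≤ Nat.card V := by
      calc Nat.card A ^ 2 * Nat.card (fixSub φ R)
          = Nat.card A ^ 2 * Nat.card ((fixSub φ R).map inl) := by
            rw [Subgroup.card_map_of_injective SemidirectProduct.inl_injective]
        _ ≤ Nat.card A ^ 2 * Nat.card ↥(M ⊓ Subgroup.centralizer (A : Set W)) :=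
            Nat.mul_le_mul_left _ (Subgroup.card_le_of_le hfix)
        _ ≤ Nat.card M := hbq.1
        _ = Nat.card V :=
            (Nat.card_congr (MonoidHom.ofInjective (SemidirectProduct.inl_injective : Function.Injective inl)).toEquiv).symm
    rw [← (fixSub φ R).index_mul_card] at h1
    rw [← hcA]
    exact Nat.le_of_mul_le_mul_right h1 Nat.card_pos
  · refine ⟨⟨⟨?_⟩⟩, ?_⟩
    · rintro ⟨_, _, ⟨r, hr, rfl⟩, rfl⟩ ⟨_, _, ⟨s, hs, rfl⟩, rfl⟩
      refine Subtype.ext ?_
      show inr _ * inr _ = inr _ * inr _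
      exact (Commute.map (show Commute (φ.rangeRestrict r) (φ.rangeRestrict s) from
        Subtype.ext (hRc r hr s hs)) inr).eq
    · rintro _ ⟨_, ⟨r, hr, rfl⟩, rfl⟩
      rw [← map_pow, pow_two]
      rw [show φ.rangeRestrict r * φ.rangeRestrict r = 1 from Subtype.ext (hRs r hr), map_one]

/-- Images of `G / C(V)` are `S₃`-free. -/
theorem range_free {G : Type u} [Group G] [Finite G] (hfree : ¬ Cfsg.Involves (Equiv.Perm (Fin 4)) G)
    {V : Subgroup G} [V.Normal] (hVe : Cfsg.IsElementaryAbelian 2 V) {Y : Type u} [Group Y] (f : G →* Y)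
    (hf : Function.Surjective f) (hker : Subgroup.centralizer (V : Set G) ≤ f.ker) :
    ¬ Cfsg.Involves (Equiv.Perm (Fin 3)) Y := by
  haveI : Fact (Nat.Prime 2) := ⟨Nat.prime_two⟩
  refine fun h => hfree (S2759.result.2 ⟨V, PLocal.elemAb_isPGroup hVe, ?_⟩)
  let N := Subgroup.normalizer (V : Set G)
  have htop : N = ⊤ := Subgroup.normalizer_eq_top V
  let f' : ↥N →* Y := f.comp N.subtype
  have hf' : Function.Surjective f' := fun y => by
    obtain ⟨g, rfl⟩ := hf y
    exact ⟨⟨g, htop ▸ trivial⟩, rfl⟩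
  refine Involves.involves_of_surjective (QuotientGroup.lift _ f' fun x hx => ?_)
    (QuotientGroup.lift_surjective_of_surjective _ _ hf' _) h
  exact hker hx

/-- Images of `G / C(V)` for a normal elementary abelian 2-subgroup `V`. -/
theorem range_props {G : Type u} [Group G] [Finite G] (hfree : ¬ Cfsg.Involves (Equiv.Perm (Fin 4)) G)
    (hsec : SecComp G) (S : Sylow 2 G) {V : Subgroup G} [V.Normal] (hVe : Cfsg.IsElementaryAbelian 2 V)
    (hVS : V ≤ (S : Subgroup G)) {Y : Type u} [Group Y] (f : G →* Y) (hf : Function.Surjective f)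
    (hker : Subgroup.centralizer (V : Set G) ≤ f.ker) :
    ¬ Cfsg.Involves (Equiv.Perm (Fin 3)) Y ∧
      Cfsg.IsCompositionKGroupWith Cfsg.IsSuzukiOrPSL2OddPowerThree Y := by
  haveI : Fact (Nat.Prime 2) := ⟨Nat.prime_two⟩
  have hVp : IsPGroup 2 V := PLocal.elemAb_isPGroup hVe
  refine ⟨range_free hfree hVe f hf hker, ?_⟩
  set C := Subgroup.centralizer (V : Set G)
  set T := (S : Subgroup G) ⊓ C
  have hVT : V ≤ T := le_inf hVS (PLocal.elemAb_le_centralizer hVe)
  set L0 := Subgroup.normalizer (T : Set G)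
  set T' := T.subgroupOf L0 with hT'
  haveI hT'n : T'.Normal := Subgroup.normal_subgroupOf_of_le_normalizer le_rfl
  have hT'p : IsPGroup 2 T' := S.isPGroup'.to_inf_left.comap_subtype
  set O := Cfsg.pPrimeCore 2 ↥L0 with hO
  haveI : O.Normal := Cores.pPrimeCore_normal 2 _
  -- odd elements centralising `T`
  have hTsyl : ¬ 2 ∣ T.relIndex C := by
    show ¬ 2 ∣ ((S : Subgroup G) ⊓ C).relIndex C
    rw [Subgroup.inf_relIndex_right]
    exact Transfer.not_dvd_relIndex_inf S.not_dvd_index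
  set D := Subgroup.centralizer (T' : Set ↥L0)
  haveI hDn : D.Normal := Subgroup.normal_centralizer
  have hDC : ∀ d ∈ D, (d : G) ∈ C := fun d hd => Subgroup.mem_centralizer_iff.2 fun v hv =>
    congrArg Subtype.val (Subgroup.mem_centralizer_iff.1 hd ⟨v, Subgroup.le_normalizer (hVT hv)⟩ (hVT hv))
  have hDT : ∀ d ∈ D, (∃ k, orderOf d = 2 ^ k) → d ∈ T' := by
    intro d hd ⟨k, hk⟩
    have hzp : IsPGroup 2 (Subgroup.zpowers (d : G)) :=
      IsPGroup.of_card (n := k) (by rw [Nat.card_zpowers, Subgroup.orderOf_coe, hk])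
    have hsup : IsPGroup 2 (T ⊔ Subgroup.zpowers (d : G) : Subgroup G) :=
      S.isPGroup'.to_inf_left.to_sup_of_normal_left' hzp (Subgroup.zpowers_le.2 d.2)
    have := eq_of_sylowish (le_sup_left : T ≤ T ⊔ Subgroup.zpowers (d : G))
      (sup_le inf_le_right (Subgroup.zpowers_le.2 (hDC d hd))) hsup hTsyl
    exact Subgroup.mem_subgroupOf.2 (this.ge (Subgroup.mem_sup_right (Subgroup.mem_zpowers _)))
  set Z := T'.subgroupOf D
  have hZc : ∀ z ∈ Z, ∀ d : D, z * d = d * z := fun z hz d =>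
    Subtype.ext (Subgroup.mem_centralizer_iff.1 d.2 _ hz)
  haveI hZn : Z.Normal := ⟨fun z hz d => by rw [← hZc z hz d, mul_inv_cancel_right]; exact hz⟩
  have hZp : IsPGroup 2 Z := hT'p.comap_subtype
  have hZi : ¬ 2 ∣ Z.index := by
    intro hd
    obtain ⟨P⟩ : Nonempty (Sylow 2 ↥D) := inferInstance
    refine P.not_dvd_index (hd.trans (Subgroup.index_dvd_of_le fun x hx => ?_))
    obtain ⟨k, hk⟩ := IsPGroup.iff_orderOf.1 P.isPGroup' ⟨x, hx⟩
    rw [Subgroup.orderOf_mk] at hk
    exact hDT x x.2 ⟨k, by rw [← hk, Subgroup.orderOf_coe]⟩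
  have hco : Nat.Coprime (Nat.card Z) Z.index := by
    obtain ⟨n, hn⟩ := IsPGroup.iff_card.1 hZp
    rw [hn]
    exact ((Nat.prime_two.coprime_iff_not_dvd).2 hZi).pow_left n
  obtain ⟨H, hH⟩ := Subgroup.exists_right_complement'_of_coprime hco
  have hHodd : ¬ 2 ∣ Nat.card H := by rw [← Subgroup.IsComplement'.index_eq_card (Subgroup.IsComplement'.symm hH)]; exact hZi
  have hoddH : ∀ d : D, Odd (orderOf d) → d ∈ H := by
    intro d hd
    obtain ⟨⟨⟨z, hz⟩, ⟨h, hh⟩⟩, rfl⟩ := hH.2 d
    have hz1 : z = 1 := by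
      have hcom : Commute z h := hZc z hz h
      set n := orderOf (z * h)
      have h1 : z ^ n * h ^ n = 1 := by rw [← hcom.mul_pow, pow_orderOf_eq_one]
      have hzn : z ^ n = 1 := by
        have h2 : z ^ n ∈ Z ⊓ H := ⟨pow_mem hz n, by
          rw [show z ^ n = (h ^ n)⁻¹ from eq_inv_of_mul_eq_one_left h1]
          exact H.inv_mem (H.pow_mem hh n)⟩
        exact Subgroup.mem_bot.1 (hH.disjoint.le_bot h2)
      obtain ⟨k, hk⟩ := IsPGroup.iff_orderOf.1 hZp ⟨z, hz⟩
      rw [Subgroup.orderOf_mk] at hk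
      refine orderOf_eq_one_iff.1 (Nat.eq_one_of_dvd_coprimes ?_ (orderOf_dvd_of_pow_eq_one hzn) dvd_rfl)
      rw [hk]
      exact (Nat.coprime_two_right.2 hd).pow_right k
    subst hz1
    simpa using hh
  have hHodd' : ∀ d : D, d ∈ H → Odd (orderOf d) := fun d hd => by
    rw [← Nat.not_even_iff_odd, even_iff_two_dvd]
    exact fun h => hHodd (h.trans (Subgroup.orderOf_dvd_natCard H hd))
  have hHO : H.map D.subtype ≤ O := by
    refine Cores.le_pPrimeCore ⟨?_⟩ ?_
    · rintro _ ⟨d, hd, rfl⟩ g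
      refine ⟨⟨g * d * g⁻¹, hDn.conj_mem _ d.2 g⟩, hoddH _ ?_, rfl⟩
      rw [← Subgroup.orderOf_coe]
      show Odd (orderOf (MulAut.conj g (d : ↥L0)))
      rw [MulEquiv.orderOf_eq, Subgroup.orderOf_coe]
      exact hHodd' d hd
    · rw [Subgroup.card_map_of_injective D.subtype_injective]
      exact ((Nat.prime_two.coprime_iff_not_dvd).2 hHodd).symm
  -- the constrained quotient
  let q := QuotientGroup.mk' O
  have hT'O : ∀ x ∈ T', x ∈ O → x = 1 := fun x hx hxO => Subgroup.mem_bot.1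
    ((Cores.disjoint_pCore_pPrimeCore (G := ↥L0) (p := 2)).le_bot ⟨Cores.le_pCore hT'n hT'p hx, hxO⟩)
  have hcon : Subgroup.centralizer (Cfsg.pCore 2 (↥L0 ⧸ O) : Set (↥L0 ⧸ O)) ≤ Cfsg.pCore 2 (↥L0 ⧸ O) := by
    intro y hy
    have hle : T'.map q ≤ Cfsg.pCore 2 (↥L0 ⧸ O) :=
      Cores.le_pCore (hT'n.map q (QuotientGroup.mk'_surjective O)) (hT'p.map q)
    obtain ⟨l, rfl⟩ := QuotientGroup.mk'_surjective O y
    have hlD : l ∈ D := Subgroup.mem_centralizer_iff.2 fun t ht => by
      have h1 : t * l * t⁻¹ * l⁻¹ ∈ O := by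
        rw [← QuotientGroup.eq_one_iff]
        show q (t * l * t⁻¹ * l⁻¹) = 1
        rw [map_mul, map_mul, map_mul, Subgroup.mem_centralizer_iff.1 hy _ (hle ⟨t, ht, rfl⟩), map_inv, map_inv, mul_inv_cancel_right]
        exact mul_inv_cancel _
      have h2 : t * l * t⁻¹ * l⁻¹ ∈ T' := by
        rw [mul_assoc, mul_assoc, ← mul_assoc l]
        exact mul_mem ht (hT'n.conj_mem _ (inv_mem ht) l)
      exact mul_inv_eq_iff_eq_mul.1 (mul_inv_eq_one.1 (hT'O _ h2 h1))
    obtain ⟨⟨⟨z, hz⟩, ⟨h, hh⟩⟩, hzh⟩ := hH.2 ⟨l, hlD⟩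
    have hl : l = (z : ↥L0) * (h : ↥L0) := (congrArg Subtype.val hzh).symm
    rw [hl, map_mul, show q (h : ↥L0) = 1 from (QuotientGroup.eq_one_iff _).2 (hHO ⟨h, hh, rfl⟩), mul_one]
    exact hle ⟨(z : ↥L0), hz, rfl⟩
  have hcomp := hsec (↥L0 ⧸ O) (((FunctorControl.IsSec.refl G).subgroup L0).of_surjective q
    (QuotientGroup.mk'_surjective O)) hcon
  let f' : ↥L0 →* Y := f.comp L0.subtype
  have hf' : Function.Surjective f' := fun y => by
    obtain ⟨g, rfl⟩ := hf y
    obtain ⟨a, ha, c, hc, rfl⟩ := PReduced.frattini_sylow_inf_mul S C g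
    exact ⟨⟨a, ha⟩, by rw [map_mul, (hker hc : f c = 1), mul_one]; rfl⟩
  refine comps_of_surjective (QuotientGroup.lift O f' fun o ho => hker ?_)
    (QuotientGroup.lift_surjective_of_surjective _ _ hf' _) hcomp
  exact Subgroup.mem_centralizer_iff.2 fun v hv => congrArg Subtype.val
    (Cores.pCore_pPrimeCore_commute (Cores.le_pCore hT'n hT'p
      (show (⟨v, Subgroup.le_normalizer (hVT hv)⟩ : ↥L0) ∈ T' from hVT hv)) ho).eq

/-- The 2F bound for the faithful actions of `X` on elementary abelian 2-groups. -/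
def ActBound (X : Type u) [Group X] : Prop :=
  ∀ (V : Type u) [Group V] [Finite V] (φ : X →* MulAut V), Function.Injective φ →
    (∀ v w : V, v * w = w * v) → (∀ v : V, v * v = 1) → ∀ A : Subgroup X, Cfsg.IsElementaryAbelian 2 A →
      Nat.card A ^ 2 ≤ (fixSub φ A).index

/-- The bound for every reduced section acting on an elementary abelian 2-subgroup normalised by it. -/
def SecBound (G : Type u) [Group G] : Prop :=
  ∀ (H : Subgroup G) (X : Type u) [Group X] (f : ↥H →* X), Function.Surjective f →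
    ∀ V : Subgroup ↥H, V.Normal → Cfsg.IsElementaryAbelian 2 V → Subgroup.centralizer (V : Set ↥H) ≤ f.ker →
      ¬ Cfsg.Involves (Equiv.Perm (Fin 3)) X → Cfsg.pCore 2 X = ⊥ → ActBound X

/-- The bound for an action whose image has it. -/
theorem bound_of_actBound {Γ : Type u} [Group Γ] {V : Type u} [Group V] [Finite V] (φ : Γ →* MulAut V)
    (hc : ∀ v w : V, v * w = w * v) (h2 : ∀ v : V, v * v = 1) (hB : ActBound ↥φ.range) (R : Subgroup Γ)
    (hRc : ∀ r ∈ R, ∀ s ∈ R, φ r * φ s = φ s * φ r) (hRs : ∀ r ∈ R, φ r * φ r = 1) :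
    φ.ker.relIndex R ^ 2 ≤ (fixSub φ R).index := by
  have hA : Cfsg.IsElementaryAbelian 2 (R.map φ.rangeRestrict) := by
    refine ⟨⟨⟨?_⟩⟩, ?_⟩
    · rintro ⟨_, r, hr, rfl⟩ ⟨_, s, hs, rfl⟩
      exact Subtype.ext (Subtype.ext (hRc r hr s hs))
    · rintro _ ⟨r, hr, rfl⟩
      rw [pow_two]
      exact Subtype.ext (hRs r hr)
  have h := hB V φ.range.subtype φ.range.subtype_injective hc h2 _ hA
  have hcard : Nat.card (R.map φ.rangeRestrict) = φ.ker.relIndex R := by
    rw [Subgroup.relIndex_ker, ← Subgroup.card_map_of_injective φ.range.subtype_injective (K := R.map φ.rangeRestrict),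
      Subgroup.map_map, MonoidHom.subtype_comp_rangeRestrict]
  rw [hcard] at h
  refine h.trans (le_of_eq ?_)
  congr 1
  ext v
  refine ⟨fun hv r hr => hv _ ⟨r, hr, rfl⟩, fun hv => ?_⟩
  rintro _ ⟨r, hr, rfl⟩
  exact hv r hr

theorem SecBound.subgroup {G : Type u} [Group G] (h : SecBound G) (K : Subgroup G) : SecBound ↥K := by
  intro H X _ f hf V hV hVe hker hS hO
  let e := H.equivMapOfInjective K.subtype K.subtype_injective
  refine h _ X (f.comp e.symm.toMonoidHom) (hf.comp e.symm.surjective) (V.map e.toMonoidHom)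
    (hV.map _ e.surjective) ((PLocal.elemAb_map_iff_of_injOn e.injective.injOn le_rfl).2 hVe) ?_ hS hO
  intro x hx
  refine hker (Subgroup.mem_centralizer_iff.2 fun v hv => e.injective ?_)
  rw [map_mul, map_mul, show e (e.symm.toMonoidHom x) = x from e.apply_symm_apply x]
  exact Subgroup.mem_centralizer_iff.1 hx _ ⟨v, hv, rfl⟩

/-- The bound for a reduced image of `G / C(V)`. -/
theorem SecBound.image {G : Type u} [Group G] [Finite G] (h : SecBound G)
    (hfree : ¬ Cfsg.Involves (Equiv.Perm (Fin 4)) G) {V : Subgroup G} [V.Normal]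
    (hVe : Cfsg.IsElementaryAbelian 2 V) {X : Type u} [Group X] (f : G →* X) (hf : Function.Surjective f)
    (hker : Subgroup.centralizer (V : Set G) ≤ f.ker) (hO : Cfsg.pCore 2 X = ⊥) : ActBound X := by
  let e : ↥(⊤ : Subgroup G) ≃* G := Subgroup.topEquiv
  refine h ⊤ X (f.comp e.toMonoidHom) (hf.comp e.surjective) (V.map e.symm.toMonoidHom)
    (Subgroup.Normal.map inferInstance _ e.symm.surjective)
    ((PLocal.elemAb_map_iff_of_injOn e.symm.injective.injOn le_rfl).2 hVe) ?_ (range_free hfree hVe f hf hker) hO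
  intro x hx
  refine hker (Subgroup.mem_centralizer_iff.2 fun v hv => e.symm.injective ?_)
  rw [map_mul, map_mul]
  exact Subgroup.mem_centralizer_iff.1 hx _ ⟨v, hv, rfl⟩

/-- The classification form implies the bound. -/
theorem secBound_of_secComp {G : Type u} [Group G] [Finite G] (hfree : ¬ Cfsg.Involves (Equiv.Perm (Fin 4)) G)
    (hsec : SecComp G) : SecBound G := by
  haveI : Fact (Nat.Prime 2) := ⟨Nat.prime_two⟩
  intro H X _ f hf V hV hVe hker hS hO W _ _ φ hφ hc h2 A hA
  haveI := hV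
  obtain ⟨S⟩ : Nonempty (Sylow 2 ↥H) := inferInstance
  obtain ⟨-, hK⟩ := range_props (not_involves_subgroup hfree H) (hsec.subgroup H) S hVe
    ((Cores.le_pCore hV (PLocal.elemAb_isPGroup hVe)).trans (Cores.pCore_le_sylow S)) f hf hker
  let e := MonoidHom.ofInjective hφ
  have h := bound_of_hom φ hc h2 (by rw [← Cores.pCore_map_mulEquiv e 2, hO, Subgroup.map_bot])
    (fun h => hS (Involves.involves_of_surjective e.toMonoidHom e.surjective h))
    (comps_of_surjective e.toMonoidHom e.surjective hK) A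
    (fun r hr s hs => by rw [← map_mul, ← map_mul, JComp.elem_comm hA hr hs])
    (fun r hr => by rw [← map_mul, JComp.elem_mul_self hA hr, map_one])
  rwa [(MonoidHom.ker_eq_bot_iff φ).2 hφ, Subgroup.relIndex_bot_left] at h

end Cfsg.Agent.SFourClosed
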