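import Cfsg.Agent.Lib.AlperinFamily.Control
import Cfsg.Agent.Lib.FunctorControl.Sections
import Cfsg.Agent.Lib.PLocal.Thompson
import Cfsg.Agent.Lib.JComp.Base
import Cfsg.Prelude.Def_Local
import Cfsg.Prelude.Def_LocalEven

/-!
Abelian 2-subgroups on which no elementary 2-subgroup is a 2F offender.

Main results (namespace `Cfsg.Agent.SFourClosed`):
* `Bound A`: every 2-subgroup normalising `A`, elementary modulo `C(A)`, moves at least its square;
* `Hyp S A`: the standing hypothesis, and its inheritance to subgroups (`Hyp.restrict`, `Hyp.restrict_of_le`);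
* `jOf_of_le`: a 2-group above `J(S)` has Thompson subgroup `J(S)`.
-/

set_option autoImplicit false
set_option linter.unusedSectionVars false
set_option linter.style.haveILetI false

namespace Cfsg.Agent.SFourClosed

open AlperinFamily PLocal

universe u

section
variable {G : Type*} [Group G]

/-- No elementary 2-subgroup of `N(A)` is a 2F offender on `A`. -/
def Bound (A : Subgroup G) : Prop :=
  ∀ R : Subgroup G, R ≤ Subgroup.normalizer (A : Set G) → IsPGroup 2 R →
    (∀ r ∈ R, ∀ s ∈ R, r * s * r⁻¹ * s⁻¹ ∈ Subgroup.centralizer (A : Set G)) →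
    (∀ r ∈ R, r * r ∈ Subgroup.centralizer (A : Set G)) →
      (Subgroup.centralizer (A : Set G)).relIndex R ^ 2 ≤ (Subgroup.centralizer (R : Set G)).relIndex A

theorem le_cent_comm {A B : Subgroup G} (h : A ≤ Subgroup.centralizer (B : Set G)) :
    B ≤ Subgroup.centralizer (A : Set G) :=
  Subgroup.le_centralizer_iff.1 h

theorem relIndex_cj (g : G) (H K : Subgroup G) : (cj g H).relIndex (cj g K) = H.relIndex K :=
  Subgroup.relIndex_map_map_of_injective _ _ (MulAut.conj g).injective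

theorem cj_cent (g : G) (A : Subgroup G) :
    cj g (Subgroup.centralizer (A : Set G)) = Subgroup.centralizer ((cj g A : Subgroup G) : Set G) := by
  refine le_antisymm ?_ fun x hx => mem_cj.2 (Subgroup.mem_centralizer_iff.2 fun a ha => ?_)
  · rintro _ ⟨c, hc, rfl⟩
    refine Subgroup.mem_centralizer_iff.2 ?_
    rintro _ ⟨a, ha, rfl⟩
    rw [← map_mul, ← map_mul, Subgroup.mem_centralizer_iff.1 hc a ha]
  · have h := Subgroup.mem_centralizer_iff.1 hx (g * a * g⁻¹) (conj_mem_cj g ha)
    calc a * (g⁻¹ * x * g) = g⁻¹ * ((g * a * g⁻¹) * x) * g := by group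
      _ = g⁻¹ * (x * (g * a * g⁻¹)) * g := by rw [h]
      _ = g⁻¹ * x * g * a := by group

theorem Bound.cj {A : Subgroup G} (h : Bound A) (g : G) : Bound (cj g A) := by
  intro R hR hR2 hc hs
  have hback : ∀ x ∈ Subgroup.centralizer ((AlperinFamily.cj g A : Subgroup G) : Set G),
      g⁻¹ * x * g ∈ Subgroup.centralizer (A : Set G) := by
    intro x hx
    rw [← cj_cent] at hx
    exact mem_cj.1 hx
  have h1 : (Subgroup.centralizer (A : Set G)).relIndex (AlperinFamily.cj g⁻¹ R) ^ 2 ≤
      (Subgroup.centralizer ((AlperinFamily.cj g⁻¹ R : Subgroup G) : Set G)).relIndex A := by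
    refine h _ ?_ (hR2.map _) ?_ ?_
    · have h0 := cj_le_normalizer g⁻¹ hR
      rwa [cj_cj, inv_mul_cancel, cj_one] at h0
    · rintro _ ⟨r, hr, rfl⟩ _ ⟨s, hs', rfl⟩
      rw [← map_inv, ← map_inv, ← map_mul, ← map_mul, ← map_mul]
      simpa [mul_assoc] using hback _ (hc r hr s hs')
    · rintro _ ⟨r, hr, rfl⟩
      rw [← map_mul]
      simpa [mul_assoc] using hback _ (hs r hr)
  have e1 := relIndex_cj g (Subgroup.centralizer (A : Set G)) (AlperinFamily.cj g⁻¹ R)
  have e2 := relIndex_cj g (Subgroup.centralizer ((AlperinFamily.cj g⁻¹ R : Subgroup G) : Set G)) A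
  rw [cj_cent, cj_cj R, mul_inv_cancel, cj_one] at e1 e2
  rwa [← e1, ← e2] at h1

theorem centralizer_subgroupOf {H A : Subgroup G} (hA : A ≤ H) :
    Subgroup.centralizer (A.subgroupOf H : Set H) = (Subgroup.centralizer (A : Set G)).subgroupOf H := by
  ext x
  simp only [Subgroup.mem_subgroupOf, Subgroup.mem_centralizer_iff]
  exact ⟨fun h a ha => congrArg Subtype.val (h ⟨a, hA ha⟩ ha),
    fun h a ha => Subtype.ext (h a ha)⟩

theorem normalizer_subgroupOf_map {H A : Subgroup G} (hA : A ≤ H) :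
    (Subgroup.normalizer (A.subgroupOf H : Set H)).map H.subtype ≤ Subgroup.normalizer (A : Set G) := by
  refine (Subgroup.le_normalizer_map H.subtype).trans ?_
  rw [Subgroup.map_subgroupOf_eq_of_le hA]

theorem Bound.subgroup {A H : Subgroup G} (h : Bound A) (hA : A ≤ H) : Bound (A.subgroupOf H) := by
  intro R hR hR2 hc hs
  rw [centralizer_subgroupOf hA] at hc hs ⊢
  have hAm : (A.subgroupOf H).map H.subtype = A := Subgroup.map_subgroupOf_eq_of_le hA
  have h1 : (Subgroup.centralizer (A : Set G)).relIndex (R.map H.subtype) ^ 2 ≤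
      (Subgroup.centralizer ((R.map H.subtype : Subgroup G) : Set G)).relIndex A := by
    refine h _ ((Subgroup.map_mono hR).trans (normalizer_subgroupOf_map hA)) (hR2.map _) ?_ ?_
    · rintro _ ⟨r, hr, rfl⟩ _ ⟨s, hs', rfl⟩
      exact hc r hr s hs'
    · rintro _ ⟨r, hr, rfl⟩
      exact hs r hr
  have e1 : ((Subgroup.centralizer (A : Set G)).subgroupOf H).relIndex R =
      (Subgroup.centralizer (A : Set G)).relIndex (R.map H.subtype) := Subgroup.relIndex_comap _ _ _
  have hRH : R.map H.subtype ≤ H := Subgroup.map_subtype_le R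
  have e2 : (Subgroup.centralizer (R : Set H)).relIndex (A.subgroupOf H) =
      (Subgroup.centralizer ((R.map H.subtype : Subgroup G) : Set G)).relIndex A := by
    have hsub : (R.map H.subtype).subgroupOf H = R :=
      Subgroup.comap_map_eq_self_of_injective H.subtype_injective R
    conv_lhs => rw [← hsub, centralizer_subgroupOf hRH]
    exact Subgroup.relIndex_subgroupOf hA
  rw [e1, e2]
  exact h1

end

/-- Every constrained section has only Suzuki and `PSL₂(3^odd)` non-abelian composition factors. -/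
def SecComp (G : Type u) [Group G] : Prop :=
  ∀ (X : Type u) [Group X], FunctorControl.IsSec G X →
    Subgroup.centralizer (Cfsg.pCore 2 X : Set X) ≤ Cfsg.pCore 2 X →
      Cfsg.IsCompositionKGroupWith Cfsg.IsSuzukiOrPSL2OddPowerThree X

theorem SecComp.subgroup {G : Type u} [Group G] (h : SecComp G) (H : Subgroup G) : SecComp ↥H :=
  fun X _ hX hc => h X (((FunctorControl.IsSec.refl G).subgroup H).trans hX) hc

theorem not_involves_subgroup {G : Type*} [Group G] (h : ¬ Cfsg.Involves (Equiv.Perm (Fin 4)) G) (H : Subgroup G) :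
    ¬ Cfsg.Involves (Equiv.Perm (Fin 4)) ↥H :=
  fun h' => h (Involves.involves_of_subgroup h')

section
variable {G : Type*} [Group G] [Finite G]

/-- The standing hypothesis. -/
structure Hyp (S : Sylow 2 G) (A : Subgroup G) : Prop where
  elem : Cfsg.IsElementaryAbelian 2 A
  le : A ≤ (S : Subgroup G)
  norm : (S : Subgroup G) ≤ Subgroup.normalizer (A : Set G)
  cent : Cfsg.thompsonSubgroupOf 2 (S : Subgroup G) ≤ Subgroup.centralizer (A : Set G)
  normJ : Subgroup.normalizer (Cfsg.thompsonSubgroupOf 2 (S : Subgroup G) : Set G) ≤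
    Subgroup.normalizer (A : Set G)
  bound : Bound A

theorem le_maxElem {T A B : Subgroup G} (hAe : Cfsg.IsElementaryAbelian 2 A) (hAT : A ≤ T)
    (hc : B ≤ Subgroup.centralizer (A : Set G)) (hB : B ∈ JComp.maxElem T) : A ≤ B :=
  fun x hx => mem_of_centralizes hB (hAT hx) (hAe.2 x hx) (le_cent_comm hc hx)

theorem le_jOf_of_cent {T A : Subgroup G} (hAe : Cfsg.IsElementaryAbelian 2 A) (hAT : A ≤ T)
    (hc : Cfsg.thompsonSubgroupOf 2 T ≤ Subgroup.centralizer (A : Set G)) :
    A ≤ Cfsg.thompsonSubgroupOf 2 T := by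
  obtain ⟨B, hB⟩ := JComp.exists_maxElem T
  exact (le_maxElem hAe hAT ((JComp.le_jOf hB).trans hc) hB).trans (JComp.le_jOf hB)

theorem Hyp.le_jOf {S : Sylow 2 G} {A : Subgroup G} (h : Hyp S A) :
    A ≤ Cfsg.thompsonSubgroupOf 2 (S : Subgroup G) :=
  le_jOf_of_cent h.elem h.le h.cent

/-- A 2-group above `J(S)` has Thompson subgroup `J(S)`. -/
theorem jOf_of_le (S : Sylow 2 G) {P : Subgroup G} (hP : IsPGroup 2 P)
    (hJ : Cfsg.thompsonSubgroupOf 2 (S : Subgroup G) ≤ P) :
    Cfsg.thompsonSubgroupOf 2 P = Cfsg.thompsonSubgroupOf 2 (S : Subgroup G) ∧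
      P ≤ Subgroup.normalizer (Cfsg.thompsonSubgroupOf 2 (S : Subgroup G) : Set G) := by
  haveI : Fact (Nat.Prime 2) := ⟨Nat.prime_two⟩
  obtain ⟨T, hT⟩ := hP.exists_le_sylow
  obtain ⟨x, hx⟩ := MulAction.exists_smul_eq G S T
  have hTx : (T : Subgroup G) = cj x (S : Subgroup G) := by rw [← hx]; rfl
  have hle : Cfsg.thompsonSubgroupOf 2 (S : Subgroup G) ≤ Cfsg.thompsonSubgroupOf 2 (T : Subgroup G) := by
    rw [JComp.jOf_le_iff]
    intro B hB
    refine JComp.le_jOf ⟨((JComp.le_jOf hB).trans hJ).trans hT, hB.2.1, fun C hC hCe => ?_⟩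
    rw [← card_cj x⁻¹ C]
    refine hB.2.2 _ ?_ ((elemAb_map_iff_of_injOn (MulAut.conj x⁻¹).injective.injOn le_rfl).2 hCe)
    rw [hTx] at hC
    have h1 : cj x⁻¹ C ≤ cj x⁻¹ (cj x (S : Subgroup G)) := Subgroup.map_mono hC
    rwa [cj_cj, inv_mul_cancel, cj_one] at h1
  have heq : Cfsg.thompsonSubgroupOf 2 (S : Subgroup G) = Cfsg.thompsonSubgroupOf 2 (T : Subgroup G) :=
    Subgroup.eq_of_le_of_card_ge hle (by
      rw [hTx, ← PLocal.map_conj_thompsonSubgroupOf]
      exact (card_cj x _).le)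
  refine ⟨?_, ?_⟩
  · rw [heq]
    exact JComp.jOf_eq_of_between (heq ▸ hJ) hT
  · rw [heq]
    exact hT.trans (Subgroup.le_normalizer.trans (normalizer_le_normalizer_thompsonSubgroupOf _))

/-- Inheritance to a subgroup. -/
theorem Hyp.restrict {S : Sylow 2 G} {A : Subgroup G} (h : Hyp S A) {H : Subgroup G} (P : Sylow 2 H)
    (hAP : A ≤ (P : Subgroup H).map H.subtype)
    (hc : Cfsg.thompsonSubgroupOf 2 ((P : Subgroup H).map H.subtype) ≤ Subgroup.centralizer (A : Set G))
    (hnorm : (P : Subgroup H).map H.subtype ≤ Subgroup.normalizer (A : Set G))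
    (hn : H ⊓ Subgroup.normalizer (Cfsg.thompsonSubgroupOf 2 ((P : Subgroup H).map H.subtype) : Set G) ≤
      Subgroup.normalizer (A : Set G)) : Hyp P (A.subgroupOf H) := by
  have hAH : A ≤ H := hAP.trans (Subgroup.map_subtype_le _)
  have hmap := map_thompsonSubgroupOf (p := 2) H.subtype (H := (P : Subgroup H)) H.subtype_injective.injOn
  have hN : ∀ x : H, (x : G) ∈ Subgroup.normalizer (A : Set G) → x ∈ Subgroup.normalizer (A.subgroupOf H : Set H) :=
    fun x hx => Subgroup.mem_normalizer_iff.2 fun a => Subgroup.mem_normalizer_iff.1 hx (a : G)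
  refine ⟨⟨⟨⟨fun a b => ?_⟩⟩, fun a ha => Subtype.ext (h.elem.2 a ha)⟩, fun x hx => ?_, fun x hx => ?_,
    fun x hx => ?_, fun x hx => hN x (hn ⟨x.2, ?_⟩), h.bound.subgroup hAH⟩
  · exact Subtype.ext (Subtype.ext (JComp.elem_comm h.elem a.2 b.2))
  · obtain ⟨y, hy, he⟩ := hAP hx
    rwa [show x = y from Subtype.ext he.symm]
  · exact hN x (hnorm ⟨x, hx, rfl⟩)
  · rw [centralizer_subgroupOf hAH]
    exact hc (hmap ▸ Subgroup.mem_map_of_mem _ hx)
  · rw [← hmap]
    exact Subgroup.le_normalizer_map H.subtype ⟨x, hx, rfl⟩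

/-- Inheritance to a subgroup whose Sylow subgroup contains `J(S)`. -/
theorem Hyp.restrict_of_le {S : Sylow 2 G} {A : Subgroup G} (h : Hyp S A) {H : Subgroup G} (P : Sylow 2 H)
    (hJ : Cfsg.thompsonSubgroupOf 2 (S : Subgroup G) ≤ (P : Subgroup H).map H.subtype) :
    Hyp P (A.subgroupOf H) := by
  obtain ⟨h1, h2⟩ := jOf_of_le S (P.isPGroup'.map H.subtype) hJ
  refine h.restrict P (h.le_jOf.trans hJ) ?_ (h2.trans h.normJ) ?_
  · rw [h1]; exact h.cent
  · rw [h1]; exact inf_le_right.trans h.normJ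

end

end Cfsg.Agent.SFourClosed
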