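import Cfsg.Agent.Lib.SFourClosed.Tools
import Cfsg.Agent.Lib.Solvable.Basic

/-!
The case of a normal 2-subgroup containing `A`.

Main results (namespace `Cfsg.Agent.SFourClosed`):
* `conj_comm`, `chain`: conjugates in a normal 2-subgroup commute, and the 2F bound passes to their join;
* `normal_of_le_normal`: if proper subgroups have weakly closed `A`, then `A` is normal.
-/

set_option autoImplicit false
set_option linter.unusedSectionVars false
set_option linter.style.haveILetI false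

namespace Cfsg.Agent.SFourClosed

open AlperinFamily

universe u

theorem card_mul_relIndex {G : Type*} [Group G] {H K : Subgroup G} (h : H ≤ K) :
    Nat.card H * H.relIndex K = Nat.card K := by
  rw [← Subgroup.relIndex_bot_left, ← Subgroup.relIndex_bot_left,
    Subgroup.relIndex_mul_relIndex _ _ _ bot_le h]

/-- Weak closure in every proper subgroup. -/
def ProperWeak (G : Type u) [Group G] [Finite G] : Prop :=
  ∀ H : Subgroup G, H ≠ ⊤ → ∀ (P : Sylow 2 H) (A : Subgroup H), Hyp P A →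
    ∀ g : H, cj g A ≤ (P : Subgroup H) → cj g A = A

section
variable {G : Type u} [Group G] [Finite G]

theorem normal_le_sylow (S : Sylow 2 G) {U : Subgroup G} (hUn : U.Normal) (hU : IsPGroup 2 U) :
    U ≤ (S : Subgroup G) :=
  (Cores.le_pCore hUn hU).trans (Cores.pCore_le_sylow S)

theorem conj_comm {S : Sylow 2 G} {A U : Subgroup G} (h : Hyp S A) (hUn : U.Normal) (hU : IsPGroup 2 U)
    (hAU : A ≤ U) (g g' : G) : cj g A ≤ Subgroup.centralizer ((cj g' A : Subgroup G) : Set G) := by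
  have hUS := normal_le_sylow S hUn hU
  have hcjU : ∀ x : G, cj x A ≤ U := fun x => by
    rintro _ ⟨a, ha, rfl⟩
    exact hUn.conj_mem a (hAU ha) x
  have hnorm : ∀ x y : G, cj x A ≤ Subgroup.normalizer ((cj y A : Subgroup G) : Set G) := fun x y z hz => by
    refine cj_le_normalizer y h.norm (mem_cj.2 (hUS ?_))
    simpa using hUn.conj_mem z (hcjU x hz) y⁻¹
  have hbd : ∀ x y : G, (Subgroup.centralizer ((cj y A : Subgroup G) : Set G)).relIndex (cj x A) ^ 2 ≤
      (Subgroup.centralizer ((cj x A : Subgroup G) : Set G)).relIndex (cj y A) := fun x y => by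
    have hel : Cfsg.IsElementaryAbelian 2 (cj x A) :=
      (PLocal.elemAb_map_iff_of_injOn (MulAut.conj x).injective.injOn le_rfl).2 h.elem
    refine h.bound.cj y _ (hnorm x y) (PLocal.elemAb_isPGroup hel) (fun r hr s hs => ?_) (fun r hr => ?_)
    · rw [JComp.elem_comm hel hr hs, mul_inv_cancel_right, mul_inv_cancel]
      exact one_mem _
    · rw [JComp.elem_mul_self hel hr]
      exact one_mem _
  set a := (Subgroup.centralizer ((cj g' A : Subgroup G) : Set G)).relIndex (cj g A)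
  have h1 : a ^ 4 ≤ a := by
    calc a ^ 4 = (a ^ 2) ^ 2 := by ring
      _ ≤ (Subgroup.centralizer ((cj g A : Subgroup G) : Set G)).relIndex (cj g' A) ^ 2 :=
          Nat.pow_le_pow_left (hbd g g') 2
      _ ≤ a := hbd g' g
  refine Subgroup.relIndex_eq_one.1 ?_
  have hpos : 0 < a := Nat.pos_of_ne_zero Subgroup.index_ne_zero_of_finite
  show a = 1
  by_contra hne
  have h2 : 2 ≤ a := by omega
  have : a ^ 1 < a ^ 4 := Nat.pow_lt_pow_right h2 (by norm_num)
  rw [pow_one] at this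
  omega

/-- The 2F bound for the join of commuting conjugates. -/
theorem chain {S : Sylow 2 G} {A : Subgroup G} (h : Hyp S A) {B : Subgroup G} (hAB : ∀ g, cj g A ≤ B)
    (hBle : B ≤ ⨆ g, cj g A) (hBc : ∀ g, cj g A ≤ Subgroup.centralizer (B : Set G)) {E : Subgroup G}
    (hE : IsPGroup 2 E) (hn : ∀ g, E ≤ Subgroup.normalizer ((cj g A : Subgroup G) : Set G))
    (hc : ∀ r ∈ E, ∀ s ∈ E, r * s * r⁻¹ * s⁻¹ ∈ Subgroup.centralizer (B : Set G))
    (hs : ∀ r ∈ E, r * r ∈ Subgroup.centralizer (B : Set G)) :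
    (Subgroup.centralizer (B : Set G)).relIndex E ^ 2 ≤ (Subgroup.centralizer (E : Set G)).relIndex B := by
  induction hn' : Nat.card E using Nat.strong_induction_on generalizing E with
  | _ n ih =>
  subst hn'
  set C := Subgroup.centralizer (B : Set G) with hC
  by_cases hEB : E ≤ C
  · rw [Subgroup.relIndex_eq_one.2 hEB, one_pow]
    exact Nat.one_le_iff_ne_zero.2 Subgroup.index_ne_zero_of_finite
  obtain ⟨g, hg⟩ : ∃ g, ¬ E ≤ Subgroup.centralizer ((cj g A : Subgroup G) : Set G) := by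
    by_contra hcon
    push Not at hcon
    exact hEB (le_cent_comm (hBle.trans (iSup_le fun g => le_cent_comm (hcon g))))
  set Cg := Subgroup.centralizer ((cj g A : Subgroup G) : Set G) with hCg
  have hCCg : C ≤ Cg := Subgroup.centralizer_le (hAB g)
  set E1 := E ⊓ Cg
  have hlt : E1 < E := lt_of_le_of_ne inf_le_left fun he => hg (he ▸ inf_le_right)
  have i1 := ih _ (Set.ncard_lt_ncard hlt (Set.toFinite _)) (hE.to_inf_left) (fun g => inf_le_left.trans (hn g))
    (fun r hr s hs' => hc r hr.1 s hs'.1) (fun r hr => hs r hr.1) rfl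
  have i2 := h.bound.cj g E (hn g) hE (fun r hr s hs' => hCCg (hc r hr s hs')) (fun r hr => hCCg (hs r hr))
  have e1 : C.relIndex E1 * Cg.relIndex E = C.relIndex E := by
    rw [show E1 = Cg ⊓ E from inf_comm _ _, Subgroup.relIndex_inf_mul_relIndex, inf_eq_left.2 hCCg]
  set D := Subgroup.centralizer (E : Set G)
  set D1 := Subgroup.centralizer (E1 : Set G)
  have e2 : D.relIndex (D1 ⊓ B) * D1.relIndex B = D.relIndex B := by
    rw [Subgroup.relIndex_inf_mul_relIndex, inf_eq_left.2 (Subgroup.centralizer_le hlt.le)]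
  have e3 : D.relIndex (cj g A) ≤ D.relIndex (D1 ⊓ B) :=
    Subgroup.relIndex_le_of_le_right (le_inf (le_cent_comm inf_le_right) (hAB g))
      Subgroup.index_ne_zero_of_finite
  calc C.relIndex E ^ 2 = C.relIndex E1 ^ 2 * Cg.relIndex E ^ 2 := by rw [← e1, mul_pow]
    _ ≤ D1.relIndex B * D.relIndex (D1 ⊓ B) := Nat.mul_le_mul i1 (i2.trans e3)
    _ = D.relIndex B := by rw [mul_comm]; exact e2

/-- Index of the annihilator of `K` in `B`, for a pairing into a group of order 2. -/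
theorem relIndex_stab_le {B K X0 X1 : Subgroup G} [X1.Normal] (hK : ∀ k ∈ K, ∀ b ∈ B, k * b * k⁻¹ * b⁻¹ ∈ X0)
    (hc : X0 ≤ Subgroup.center G) (h2 : ∀ u ∈ X0, ∀ v ∈ X0, u ∉ X1 → v ∉ X1 → u * v ∈ X1) :
    (stab K X1).relIndex B ≤ (Subgroup.centralizer (B : Set G)).relIndex K := by
  set C := Subgroup.centralizer (B : Set G)
  obtain ⟨K1, ⟨hK1, hC1, hP1⟩, hmax⟩ := Set.exists_max_image
    {K' : Subgroup G | K' ≤ K ∧ K ⊓ C ≤ K' ∧ (stab K' X1).relIndex B ≤ C.relIndex K'}
    (fun K' => Nat.card K') (Set.toFinite _) ⟨K ⊓ C, inf_le_left, le_rfl, by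
      rw [Subgroup.relIndex_eq_one.2 (le_stab_comm.1 (inf_le_right.trans (centralizer_le_stab B X1))),
        Subgroup.relIndex_eq_one.2 inf_le_right]⟩
  rcases eq_or_lt_of_le hK1 with rfl | hlt
  · exact hP1
  exfalso
  obtain ⟨k, hk, hk1⟩ := SetLike.exists_of_lt hlt
  set K2 := K1 ⊔ Subgroup.zpowers k
  have hlt2 : K1 < K2 := left_lt_sup.2 fun hle => hk1 (hle (Subgroup.mem_zpowers k))
  have hK2 : K2 ≤ K := sup_le hK1 (Subgroup.zpowers_le.2 hk)
  refine (Set.ncard_lt_ncard hlt2 (Set.toFinite _)).not_ge (hmax K2 ⟨hK2, hC1.trans le_sup_left, ?_⟩)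
  set Dk := stab (Subgroup.zpowers k) X1
  have hsub : Dk ⊓ stab K1 X1 ≤ stab K2 X1 :=
    le_stab_comm.1 (sup_le (le_stab_comm.1 inf_le_right) (le_stab_comm.1 inf_le_left))
  have hmem : ∀ b : G, b ∈ Dk ↔ k * b * k⁻¹ * b⁻¹ ∈ X1 := by
    intro b
    rw [← Subgroup.zpowers_le, le_stab_comm, Subgroup.zpowers_le, mem_stab]
    refine ⟨fun h => h b (Subgroup.mem_zpowers b), fun h x hx => ?_⟩
    have hle : Subgroup.zpowers b ≤ stab (Subgroup.zpowers k) X1 := by
      rw [Subgroup.zpowers_le, mem_stab]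
      intro y hy
      have hy' : y ∈ stab (Subgroup.zpowers b) X1 := by
        refine (Subgroup.zpowers_le.2 (mem_stab.2 fun x hx => ?_)) hy
        obtain ⟨i, rfl⟩ := Subgroup.mem_zpowers_iff.1 hx
        have hcm : Commute (QuotientGroup.mk' X1 k) (QuotientGroup.mk' X1 b) := by
          have h1 : QuotientGroup.mk' X1 (k * b * k⁻¹ * b⁻¹) = 1 := (QuotientGroup.eq_one_iff _).2 h
          rw [map_mul, map_mul, map_mul, map_inv, map_inv, mul_inv_eq_one, mul_inv_eq_iff_eq_mul] at h1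
          exact h1
        rw [← QuotientGroup.eq_one_iff]
        show QuotientGroup.mk' X1 (k * b ^ i * k⁻¹ * (b ^ i)⁻¹) = 1
        rw [map_mul, map_mul, map_mul, map_inv, map_inv, map_zpow, (hcm.zpow_right i).eq, mul_inv_cancel_right,
          mul_inv_cancel]
      have h3 := X1.inv_mem (mem_stab.1 hy' b (Subgroup.mem_zpowers b))
      simpa [mul_inv_rev, mul_assoc] using h3
    exact mem_stab.1 ((le_stab_comm.1 hle) (Subgroup.mem_zpowers k)) x hx
  have hfac : Dk.relIndex (stab K1 X1 ⊓ B) ≤ 2 := by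
    by_cases hall : stab K1 X1 ⊓ B ≤ Dk
    · rw [Subgroup.relIndex_eq_one.2 hall]; norm_num
    · obtain ⟨u, hu, huD⟩ := SetLike.not_le_iff_exists.1 hall
      refine (Subgroup.relIndex_eq_two_iff.2 ⟨u, hu, fun v hv => ?_⟩).le
      by_cases hvD : v ∈ Dk
      · exact Or.inr ⟨hvD, fun hvu => huD ((Dk.mul_mem_cancel_left hvD).1 hvu)⟩
      · refine Or.inl ⟨?_, hvD⟩
        rw [hmem] at huD hvD ⊢
        have hvc := Subgroup.mem_center_iff.1 (hc (hK k hk u hu.2)) v
        have e : k * (v * u) * k⁻¹ * (v * u)⁻¹ = k * v * k⁻¹ * v⁻¹ * (k * u * k⁻¹ * u⁻¹) := by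
          calc k * (v * u) * k⁻¹ * (v * u)⁻¹
              = k * v * k⁻¹ * ((k * u * k⁻¹ * u⁻¹) * v⁻¹) := by group
            _ = k * v * k⁻¹ * (v⁻¹ * (v * (k * u * k⁻¹ * u⁻¹)) * v⁻¹) := by group
            _ = k * v * k⁻¹ * v⁻¹ * (k * u * k⁻¹ * u⁻¹) := by rw [hvc]; group
        rw [e]
        exact h2 _ (hK k hk v hv.2) _ (hK k hk u hu.2) hvD huD
  calc (stab K2 X1).relIndex B ≤ (Dk ⊓ stab K1 X1).relIndex B :=
        Subgroup.relIndex_le_of_le_left hsub Subgroup.index_ne_zero_of_finite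
    _ = Dk.relIndex (stab K1 X1 ⊓ B) * (stab K1 X1).relIndex B := by rw [Subgroup.relIndex_inf_mul_relIndex]
    _ ≤ 2 * C.relIndex K1 := Nat.mul_le_mul hfac hP1
    _ ≤ K1.relIndex K2 * C.relIndex K1 := by
        refine Nat.mul_le_mul_right _ ?_
        have h0 : K1.relIndex K2 ≠ 0 := Subgroup.index_ne_zero_of_finite
        have h1 : K1.relIndex K2 ≠ 1 := fun he => hlt2.not_ge (Subgroup.relIndex_eq_one.1 he)
        omega
    _ = C.relIndex K2 := by
        rw [← Subgroup.inf_relIndex_right C K1, ← Subgroup.inf_relIndex_right C K2, mul_comm]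
        have he : C ⊓ K2 = C ⊓ K1 := le_antisymm
          (le_inf inf_le_left ((le_inf (inf_le_right.trans hK2) inf_le_left).trans hC1))
          (inf_le_inf_left _ le_sup_left)
        rw [he]
        exact Subgroup.relIndex_mul_relIndex _ _ _ inf_le_right le_sup_left

/-- A normal 2-subgroup containing `A` forces `A` normal. -/
theorem normal_of_le_normal (hfree : ¬ Cfsg.Involves (Equiv.Perm (Fin 4)) G) (hsec : SecBound G)
    (ih : ProperWeak G) {S : Sylow 2 G} {A : Subgroup G} (h : Hyp S A) {U : Subgroup G} (hUn : U.Normal)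
    (hU : IsPGroup 2 U) (hAU : A ≤ U) : A.Normal := by
  haveI : Fact (Nat.Prime 2) := ⟨Nat.prime_two⟩
  rw [← Subgroup.normalizer_eq_top_iff, eq_top_iff]
  set J := Cfsg.thompsonSubgroupOf 2 (S : Subgroup G) with hJ
  set B := Subgroup.normalClosure (A : Set G) with hB
  haveI hBn : B.Normal := Subgroup.normalClosure_normal
  have hAB : ∀ g, cj g A ≤ B := fun g => by
    rintro _ ⟨a, ha, rfl⟩
    exact hBn.conj_mem a (Subgroup.le_normalClosure ha) g
  have hBle : B ≤ ⨆ g, cj g A := by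
    haveI : (⨆ g, cj g A).Normal := by
      refine ⟨fun n hn x => ?_⟩
      have h1 : cj x (⨆ g, cj g A) ≤ ⨆ g, cj g A := by
        rw [show cj x (⨆ g, cj g A) = ⨆ g, cj x (cj g A) from Subgroup.map_iSup _ _]
        exact iSup_le fun g => (cj_cj A g x).le.trans (le_iSup (fun g => cj g A) (x * g))
      exact h1 (conj_mem_cj x hn)
    exact Subgroup.normalClosure_le_normal fun a ha =>
      le_iSup (fun g => cj g A) 1 (by rwa [cj_one])
  have hBc : ∀ g, cj g A ≤ Subgroup.centralizer (B : Set G) := fun g =>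
    le_cent_comm (hBle.trans (iSup_le fun g' => conj_comm h hUn hU hAU g' g))
  have hBU : B ≤ U := Subgroup.normalClosure_le_normal hAU
  have hBS : B ≤ (S : Subgroup G) := hBU.trans (normal_le_sylow S hUn hU)
  have hBab : B ≤ Subgroup.centralizer (B : Set G) := hBle.trans (iSup_le hBc)
  have hBe : Cfsg.IsElementaryAbelian 2 B := by
    refine ⟨Subgroup.le_centralizer_iff_isMulCommutative.1 hBab, fun b hb => ?_⟩
    have hcl : (⨆ g, cj g A) ≤
        { carrier := {x : G | x ∈ B ∧ x ^ 2 = 1}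
          one_mem' := ⟨B.one_mem, one_pow 2⟩
          mul_mem' := fun {x y} hx hy => ⟨B.mul_mem hx.1 hy.1, by
            rw [(Commute.mul_pow (Subgroup.mem_centralizer_iff.1 (hBab hy.1) x hx.1 : Commute x y)), hx.2, hy.2,
              one_mul]⟩
          inv_mem' := fun {x} hx => ⟨B.inv_mem hx.1, by rw [inv_pow, hx.2, inv_one]⟩ } := by
      refine iSup_le fun g => ?_
      rintro _ ⟨a, ha, rfl⟩
      exact ⟨hAB g ⟨a, ha, rfl⟩, by rw [← map_pow, h.elem.2 a ha, map_one]⟩
    exact (hcl (hBle hb)).2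
  -- conjugates under a proper subgroup containing `J`
  have hweak : ∀ (H : Subgroup G) (P : Sylow 2 H), H ≠ ⊤ → J ≤ (P : Subgroup H).map H.subtype →
      (B ⊓ H ≤ (P : Subgroup H).map H.subtype) → H ≤ Subgroup.normalizer (A : Set G) := by
    intro H P hH hJP hBP x hx
    have hAH : A ≤ H := (h.le_jOf.trans hJP).trans (Subgroup.map_subtype_le _)
    have hxA : cj x A ≤ H := by
      rintro _ ⟨a, ha, rfl⟩
      exact H.mul_mem (H.mul_mem hx (hAH ha)) (H.inv_mem hx)
    have he : (cj (⟨x, hx⟩ : H) (A.subgroupOf H)).map H.subtype = cj x A := by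
      rw [Subgroup.map_map]
      conv_rhs => rw [← Subgroup.map_subgroupOf_eq_of_le hAH, cj, Subgroup.map_map]
      rfl
    have hle : cj (⟨x, hx⟩ : H) (A.subgroupOf H) ≤ (P : Subgroup H) := by
      rw [← Subgroup.map_le_map_iff_of_injective H.subtype_injective, he]
      exact (le_inf (hAB x) hxA).trans hBP
    have := congrArg (Subgroup.map H.subtype) (ih H hH P _ (h.restrict_of_le P hJP) ⟨x, hx⟩ hle)
    rw [he, Subgroup.map_subgroupOf_eq_of_le hAH] at this
    exact cj_eq_iff.1 this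
  by_cases hN : Subgroup.normalClosure (J : Set G) = ⊤
  swap
  · set N := Subgroup.normalClosure (J : Set G) with hNdef
    haveI hNn : N.Normal := Subgroup.normalClosure_normal
    have hJN : J ≤ (S : Subgroup G) ⊓ N := le_inf (JComp.jOf_le _) Subgroup.le_normalClosure
    let P := PReduced.sylowOfSubnormal S (Subgroup.Normal.isSubnormal hNn)
    have hPm : (P : Subgroup N).map N.subtype = (S : Subgroup G) ⊓ N := Subgroup.subgroupOf_map_subtype _ _
    have hNA := hweak N P hN (hPm ▸ hJN) (hPm ▸ inf_le_inf_right N hBS)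
    rw [← PReduced.frattini_sylow_inf S N]
    refine sup_le (le_trans ?_ h.normJ) hNA
    rw [← JComp.jOf_eq_of_between hJN inf_le_left]
    exact PLocal.normalizer_le_normalizer_thompsonSubgroupOf _
  have hsup : ∀ N : Subgroup G, N ⊔ (S : Subgroup G) ≠ ⊤ → N ≤ Subgroup.normalizer (A : Set G) := fun N hne => by
    let P := S.subtype (le_sup_right : (S : Subgroup G) ≤ N ⊔ S)
    have hPm : (P : Subgroup ↥(N ⊔ (S : Subgroup G))).map (N ⊔ (S : Subgroup G)).subtype = (S : Subgroup G) :=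
      Subgroup.map_subgroupOf_eq_of_le le_sup_right
    exact le_sup_left.trans (hweak _ P hne (by rw [hPm]; exact JComp.jOf_le _)
      (by rw [hPm]; exact inf_le_left.trans hBS))
  set C := Subgroup.centralizer (B : Set G) with hC
  haveI hCn : C.Normal := Subgroup.normal_centralizer
  have hCA : C ≤ Subgroup.normalizer (A : Set G) :=
    (Subgroup.centralizer_le (fun a ha => Subgroup.le_normalClosure ha)).trans (Subgroup.centralizer_le_normalizer _)
  set R := Cfsg.pResidual 2 G with hR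
  haveI hRn : R.Normal := PReduced.pResidual_normal 2 G
  by_cases hRC : R ≤ C
  · rw [← PReduced.pResidual_sup_sylow S]
    exact sup_le (hRC.trans hCA) h.norm
  exfalso
  -- `J` does not centralise `B`
  have hJB : ¬ ∀ A' ∈ JComp.maxElem (S : Subgroup G), A' ≤ C := fun hall => by
    have : (⊤ : Subgroup G) ≤ C := hN ▸ Subgroup.normalClosure_le_normal (JComp.jOf_le_iff.2 hall)
    exact hRC (le_top.trans this)
  obtain ⟨X, ⟨hXn, hXB, hXR⟩, hXmin⟩ := Set.exists_min_image
    {X : Subgroup G | X.Normal ∧ X ≤ B ∧ ¬ X ≤ Subgroup.centralizer (R : Set G)} (fun X => Nat.card X)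
    (Set.toFinite _) ⟨B, hBn, le_rfl, fun hle => hRC (le_cent_comm hle)⟩
  haveI := hXn
  set X0 := X ⊓ Subgroup.centralizer (R : Set G) with hX0
  haveI hX0n : X0.Normal := inferInstanceAs (X ⊓ Subgroup.centralizer (R : Set G)).Normal
  have hne : ¬ X ≤ X0 := fun hle => hXR (hle.trans inf_le_right)
  have hmax : ∀ Y : Subgroup G, Y.Normal → Y ≤ X → X ≤ Y ∨ Y ≤ X0 := by
    intro Y hYn hYX
    by_cases hY : Y ≤ Subgroup.centralizer (R : Set G)
    · exact Or.inr (le_inf hYX hY)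
    · exact Or.inl (Subgroup.eq_of_le_of_card_ge hYX (hXmin Y ⟨hYn, hYX.trans hXB, hY⟩)).ge
  have hXe : Cfsg.IsElementaryAbelian 2 X := PLocal.elemAb_mono hBe hXB
  have hX0B : X0 ≤ B := inf_le_left.trans hXB
  set K := stab X X0 with hK
  haveI hKn : K.Normal := stab_normal X X0
  have hCK : C ≤ K := (Subgroup.centralizer_le hXB).trans (centralizer_le_stab X X0)
  -- odd elements stabilising a series centralise
  have hodd : ∀ (Q Q0 N : Subgroup G), IsPGroup 2 Q → Q0 ≤ Q → N ≤ Subgroup.centralizer (Q0 : Set G) →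
      (∀ n ∈ N, ∀ q ∈ Q, n * q * n⁻¹ * q⁻¹ ∈ Q0) → PReduced.pMod 2 (Subgroup.centralizer (Q : Set G)) N :=
    fun Q Q0 N hQ hle hN hst => PReduced.pMod_of_stabilizes hQ hle hN hst
  have hKS : K ⊔ (S : Subgroup G) ≠ ⊤ := by
    intro htop
    have hRK : R ≤ K := by
      refine (Subgroup.closure_le _).2 fun x hx => ?_
      rw [SetLike.mem_coe, ← QuotientGroup.eq_one_iff]
      obtain ⟨s, hs, hse⟩ : ∃ s ∈ (S : Subgroup G), QuotientGroup.mk' K s = QuotientGroup.mk' K x := by
        have hx' : x ∈ (((S : Subgroup G) ⊔ K : Subgroup G) : Set G) := by rw [sup_comm, htop]; trivial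
        rw [Subgroup.mul_normal] at hx'
        obtain ⟨s, hs, k, hk, rfl⟩ := Set.mem_mul.1 hx'
        exact ⟨s, hs, by rw [map_mul, show QuotientGroup.mk' K k = 1 from (QuotientGroup.eq_one_iff k).2 hk, mul_one]⟩
      obtain ⟨n, hn⟩ := IsPGroup.iff_orderOf.1 S.isPGroup' ⟨s, hs⟩
      rw [Subgroup.orderOf_mk] at hn
      refine orderOf_eq_one_iff.1 (Nat.eq_one_of_dvd_coprimes (Nat.Coprime.pow_right n hx)
        (orderOf_map_dvd (QuotientGroup.mk' K) x) ?_)
      rw [← hn, show ((x : G ⧸ K)) = QuotientGroup.mk' K x from rfl, ← hse]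
      exact orderOf_map_dvd _ s
    refine hXR (le_cent_comm ((Subgroup.closure_le _).2 fun x hx => ?_))
    obtain ⟨n, hn⟩ := hodd X X0 R (PLocal.elemAb_isPGroup hXe) inf_le_left (le_cent_comm inf_le_right)
      (fun r hr q hq => mem_stab.1 (hRK hr) q hq) x (Subgroup.subset_closure hx)
    have hcop : (orderOf x).Coprime (2 ^ n) := Nat.Coprime.pow_right n hx
    obtain ⟨m, hm⟩ := exists_pow_eq_self_of_coprime hcop.symm
    exact hm ▸ pow_mem hn m
  have hKA : K ≤ Subgroup.normalizer (A : Set G) := hsup K hKS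
  have hKAg : ∀ g, K ≤ Subgroup.normalizer ((cj g A : Subgroup G) : Set G) := fun g k hk => by
    refine cj_le_normalizer g hKA (mem_cj.2 ?_)
    simpa using hKn.conj_mem k hk g⁻¹
  -- equalities for the maximal elementary subgroups
  have heq : ∀ A' ∈ JComp.maxElem (S : Subgroup G),
      (stab A' X0 ⊓ X ≤ Subgroup.centralizer (A' : Set G)) ∧
      (B ≤ X ⊔ (Subgroup.centralizer (A' : Set G) ⊓ B)) ∧
      (A' ⊓ K ≤ C → A' ≤ C) := by
    intro A' hA'
    set D := Subgroup.centralizer (A' : Set G)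
    set E := A' ⊓ K
    have hAe : Cfsg.IsElementaryAbelian 2 A' := hA'.2.1
    have h1 := sec_bound hfree hsec S hBe hBS X X0 hXB hne hmax hAe
    have hEe : Cfsg.IsElementaryAbelian 2 E := PLocal.elemAb_mono hAe inf_le_left
    have h2 : C.relIndex E ^ 2 ≤ D.relIndex B :=
      (chain h hAB hBle hBc (PLocal.elemAb_isPGroup hEe) (fun g => inf_le_right.trans (hKAg g))
        (fun r hr s hs => by rw [JComp.elem_comm hEe hr hs, mul_inv_cancel_right, mul_inv_cancel]; exact one_mem _)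
        (fun r hr => by rw [JComp.elem_mul_self hEe hr]; exact one_mem _)).trans
        (Subgroup.relIndex_le_of_le_left (Subgroup.centralizer_le inf_le_left) Subgroup.index_ne_zero_of_finite)
    have hDX : D.relIndex X ≤ D.relIndex B := Subgroup.relIndex_le_of_le_right hXB Subgroup.index_ne_zero_of_finite
    have hst : (stab A' X0).relIndex X ≤ D.relIndex X :=
      Subgroup.relIndex_le_of_le_left (centralizer_le_stab A' X0) Subgroup.index_ne_zero_of_finite
    have hCK' : C.relIndex E * K.relIndex A' = C.relIndex A' := by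
      rw [show E = K ⊓ A' from inf_comm _ _, Subgroup.relIndex_inf_mul_relIndex, inf_eq_left.2 hCK]
    -- `|B : C_B(A')| ≤ |A' : C_{A'}(B)|` by maximality
    have hb : D.relIndex B ≤ C.relIndex A' := by
      set W := B ⊔ (C ⊓ A')
      have hWe : Cfsg.IsElementaryAbelian 2 W := by
        refine PLocal.elemAb_sup hBe (PLocal.elemAb_mono hAe inf_le_right) ?_
        exact le_cent_comm inf_le_left
      have hcard := hA'.2.2 W (sup_le hBS (inf_le_right.trans hA'.1)) hWe
      have hBA : D ⊓ B = A' ⊓ B := le_antisymm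
        (le_inf (fun x hx => PLocal.mem_of_centralizes hA' (hBS hx.2) (hBe.2 x hx.2) hx.1) inf_le_right)
        (inf_le_inf_right _ (PLocal.elemAb_le_centralizer hAe))
      have e1 : Nat.card W * Nat.card ↥(B ⊓ (C ⊓ A')) = Nat.card B * Nat.card ↥(C ⊓ A') := by
        have := Solvable.card_sup_mul_card_inf (C ⊓ A') B
        rw [sup_comm (C ⊓ A') B, inf_comm (C ⊓ A') B, mul_comm (Nat.card ↥(C ⊓ A'))] at this
        exact this
      have e2 : B ⊓ (C ⊓ A') = D ⊓ B := by
        rw [hBA, ← inf_assoc, inf_eq_left.2 hBab, inf_comm]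
      rw [e2] at e1
      have e3 := card_mul_relIndex (H := D ⊓ B) (K := B) inf_le_right
      have e4 := card_mul_relIndex (H := C ⊓ A') (K := A') inf_le_right
      rw [Subgroup.inf_relIndex_right] at e3 e4
      have hpos : 0 < Nat.card ↥(D ⊓ B) * Nat.card ↥(C ⊓ A') := Nat.mul_pos Nat.card_pos Nat.card_pos
      refine Nat.le_of_mul_le_mul_left ?_ hpos
      calc Nat.card ↥(D ⊓ B) * Nat.card ↥(C ⊓ A') * D.relIndex B
          = Nat.card W * Nat.card ↥(D ⊓ B) := by rw [e1, ← e3]; ring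
        _ ≤ Nat.card A' * Nat.card ↥(D ⊓ B) := Nat.mul_le_mul_right _ hcard
        _ = Nat.card ↥(D ⊓ B) * Nat.card ↥(C ⊓ A') * C.relIndex A' := by rw [← e4]; ring
    rw [← hCK'] at hb
    set b := D.relIndex B
    set y := K.relIndex A'
    set a0 := C.relIndex E
    have hy2 : y ^ 2 ≤ b := h1.trans (hst.trans hDX)
    have hb0 : 0 < b := Nat.pos_of_ne_zero Subgroup.index_ne_zero_of_finite
    have hbb : b * b ≤ y ^ 2 * a0 ^ 2 := by
      calc b * b ≤ (a0 * y) * (a0 * y) := Nat.mul_le_mul hb hb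
        _ = y ^ 2 * a0 ^ 2 := by ring
    have hyb : y ^ 2 = b := by
      refine le_antisymm hy2 (Nat.le_of_mul_le_mul_right ?_ hb0)
      exact hbb.trans (Nat.mul_le_mul_left _ h2)
    have ha0 : a0 ^ 2 = b := by
      refine le_antisymm h2 (Nat.le_of_mul_le_mul_left ?_ hb0)
      exact hbb.trans (Nat.mul_le_mul_right _ hy2)
    refine ⟨inf_le_of_relIndex_eq (centralizer_le_stab A' X0) (le_antisymm ?_ hst), ?_, fun hE => ?_⟩
    · exact (hDX.trans (le_of_eq hyb.symm)).trans h1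
    · have he : D.relIndex X = D.relIndex B := le_antisymm hDX ((le_of_eq hyb.symm).trans (h1.trans hst))
      set W := X ⊔ (D ⊓ B)
      have hWB : W ≤ B := sup_le hXB inf_le_right
      rw [← Subgroup.relIndex_eq_one]
      have hm := Subgroup.relIndex_mul_relIndex (D ⊓ B) W B le_sup_right hWB
      rw [Subgroup.inf_relIndex_right] at hm
      have hge : b ≤ (D ⊓ B).relIndex W := by
        calc b = D.relIndex X := he.symm
          _ ≤ (D ⊓ B).relIndex X := Subgroup.relIndex_le_of_le_left inf_le_left Subgroup.index_ne_zero_of_finite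
          _ ≤ _ := Subgroup.relIndex_le_of_le_right le_sup_left Subgroup.index_ne_zero_of_finite
      have hW0 : W.relIndex B ≠ 0 := Subgroup.index_ne_zero_of_finite
      have : (D ⊓ B).relIndex W * W.relIndex B ≤ (D ⊓ B).relIndex W * 1 := by rw [hm, mul_one]; exact hge
      have := Nat.le_of_mul_le_mul_left this (hb0.trans_le hge)
      omega
    · have : a0 = 1 := Subgroup.relIndex_eq_one.2 hE
      rw [this, one_pow] at ha0
      exact le_cent_comm (Subgroup.relIndex_eq_one.1 ha0.symm : B ≤ D)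
  have hX0c : X0 ≤ Subgroup.center G := by
    rw [← Subgroup.centralizer_univ, ← Subgroup.coe_top, ← hN]
    refine le_cent_comm (Subgroup.normalClosure_le_normal (N := Subgroup.centralizer (X0 : Set G)) ?_)
    refine JComp.jOf_le_iff.2 fun A' hA' => le_cent_comm (fun x hx => (heq A' hA').1 ⟨?_, hx.1⟩)
    exact mem_stab.2 fun r _ => by
      simpa [mul_assoc] using X0.mul_mem hx (hX0n.conj_mem x⁻¹ (X0.inv_mem hx) r)
  have hBX : (⊤ : Subgroup G) ≤ stab B X := by
    rw [← hN]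
    refine Subgroup.normalClosure_le_normal (JComp.jOf_le_iff.2 fun A' hA' => le_stab_comm.2 ?_)
    refine (heq A' hA').2.1.trans (sup_le (fun x hx => mem_stab.2 fun r hr => ?_)
      (inf_le_left.trans (centralizer_le_stab A' X)))
    simpa [mul_assoc] using X.mul_mem hx (hXn.conj_mem x⁻¹ (X.inv_mem hx) r)
  have hgX : ∀ g : G, ∀ b ∈ B, g * b * g⁻¹ * b⁻¹ ∈ X := fun g => mem_stab.1 (hBX trivial)
  have hAB1 : A ≤ B := fun a ha => Subgroup.le_normalClosure ha
  -- `[K, B] ≤ X₀`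
  have hKB : K ≤ stab B X0 := by
    set D := ⨅ g, ((cj g A ⊓ X) ⊔ X0)
    have hDn : D.Normal := by
      refine ⟨fun n hn x => ?_⟩
      refine Subgroup.mem_iInf.2 fun g => ?_
      have h1 := conj_mem_cj x (Subgroup.mem_iInf.1 hn (x⁻¹ * g))
      rwa [show cj x (cj (x⁻¹ * g) A ⊓ X ⊔ X0) = cj x (cj (x⁻¹ * g) A ⊓ X) ⊔ cj x X0 from
          Subgroup.map_sup _ _ _, cj_inf, cj_cj, mul_inv_cancel_left,
        show cj x X = X from JComp.map_conj_eq_self (Subgroup.normalizer_eq_top X ▸ trivial),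
        show cj x X0 = X0 from JComp.map_conj_eq_self (Subgroup.normalizer_eq_top X0 ▸ trivial)] at h1
    have hDX : D ≤ X := (iInf_le _ 1).trans (sup_le inf_le_right inf_le_left)
    have hmem : ∀ k ∈ K, ∀ a ∈ A, k * a * k⁻¹ * a⁻¹ ∈ D := by
      intro k hk a ha
      refine Subgroup.mem_iInf.2 fun g => ?_
      set a' := g * a * g⁻¹
      set x := a' * a⁻¹
      have hx : x ∈ X := hgX g a (hAB1 ha)
      have ha' : a' ∈ cj g A := conj_mem_cj g ha
      have h1 : k * a' * k⁻¹ * a'⁻¹ ∈ cj g A ⊓ X :=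
        ⟨(cj g A).mul_mem ((Subgroup.mem_normalizer_iff.1 (hKAg g hk) a').1 ha') ((cj g A).inv_mem ha'),
          hgX k a' (hAB g ha')⟩
      have h2 : k * x * k⁻¹ * x⁻¹ ∈ X0 := mem_stab.1 hk x hx
      have e : k * a * k⁻¹ * a⁻¹ = (k * x * k⁻¹ * x⁻¹)⁻¹ * (k * a' * k⁻¹ * a'⁻¹) := by
        have hc : x⁻¹ * (k * a' * k⁻¹ * a'⁻¹) = (k * a' * k⁻¹ * a'⁻¹) * x⁻¹ :=
          JComp.elem_comm hBe (B.inv_mem (hXB hx)) (hXB h1.2)
        have hk' : k * x⁻¹ * k⁻¹ ∈ B := hBn.conj_mem _ (B.inv_mem (hXB hx)) k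
        symm
        calc (k * x * k⁻¹ * x⁻¹)⁻¹ * (k * a' * k⁻¹ * a'⁻¹)
            = x * (k * x⁻¹ * k⁻¹ * (k * a' * k⁻¹ * a'⁻¹)) := by group
          _ = (k * x⁻¹ * k⁻¹ * (k * a' * k⁻¹ * a'⁻¹)) * x :=
              JComp.elem_comm hBe (hXB hx) (B.mul_mem hk' (hXB h1.2))
          _ = k * a * k⁻¹ * a⁻¹ := by simp only [x]; group
      rw [e]
      exact Subgroup.mul_mem _ (Subgroup.inv_mem _ (Subgroup.mem_sup_right h2)) (Subgroup.mem_sup_left h1)
    rcases hmax D hDn hDX with hXD | hDX0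
    · exfalso
      have hXA : X ≤ A ⊔ X0 := by
        refine (hXD.trans (iInf_le _ 1)).trans (sup_le_sup_right ?_ _)
        rw [cj_one]; exact inf_le_left
      have hBA : B ≤ A ⊔ X0 := hBle.trans (iSup_le fun g => by
        rintro _ ⟨a, ha, rfl⟩
        have h1 := hXA (hgX g a (hAB1 ha))
        show g * a * g⁻¹ ∈ A ⊔ X0
        simpa [mul_assoc] using Subgroup.mul_mem _ h1 (Subgroup.mem_sup_left ha))
      refine hJB fun A' hA' => le_cent_comm (hBA.trans (sup_le ?_ (hX0c.trans (Subgroup.center_le_centralizer _))))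
      exact le_cent_comm ((JComp.le_jOf hA').trans h.cent)
    · have hA' : A ≤ stab K X0 := fun a ha => mem_stab.2 fun k hk => by
        simpa [mul_inv_rev, mul_assoc] using X0.inv_mem (hDX0 (hmem k hk a ha))
      exact le_stab_comm.2 (Subgroup.normalClosure_le_normal hA')
  have hkb : ∀ k ∈ K, ∀ b ∈ B, k * b * k⁻¹ * b⁻¹ ∈ X0 := fun k hk => mem_stab.1 (hKB hk)
  by_cases hKX : K ≤ Subgroup.centralizer (X : Set G)
  · refine hJB fun A' hA' => (heq A' hA').2.2 (le_cent_comm ((heq A' hA').2.1.trans (sup_le ?_ ?_)))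
    · exact le_cent_comm (inf_le_right.trans hKX)
    · exact inf_le_left.trans (Subgroup.centralizer_le inf_le_left)
  obtain ⟨k0, hk0, hk0X⟩ := SetLike.not_le_iff_exists.1 hKX
  obtain ⟨x0, hx0, hx0c⟩ : ∃ x ∈ X, ¬ x * k0 = k0 * x := by
    rw [Subgroup.mem_centralizer_iff] at hk0X; push Not at hk0X; exact hk0X
  set c0 := k0 * x0 * k0⁻¹ * x0⁻¹ with hc0d
  have hc0 : c0 ∈ X0 := hkb k0 hk0 x0 (hXB hx0)
  have hc01 : c0 ≠ 1 := fun he => hx0c (by rw [hc0d, mul_inv_eq_one, mul_inv_eq_iff_eq_mul] at he; exact he.symm)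
  obtain ⟨X1, ⟨hX1, hc1⟩, hX1max⟩ := Set.exists_max_image {Y : Subgroup G | Y ≤ X0 ∧ c0 ∉ Y}
    (fun Y => Nat.card Y) (Set.toFinite _) ⟨⊥, bot_le, fun hm => hc01 (Subgroup.mem_bot.1 hm)⟩
  haveI hX1n : X1.Normal := ⟨fun n hn g => by
    rw [Subgroup.mem_center_iff.1 (hX0c (hX1 hn)) g, mul_inv_cancel_right]; exact hn⟩
  have hh : ∀ u ∈ X0, ∀ v ∈ X0, u ∉ X1 → v ∉ X1 → u * v ∈ X1 := by
    have hcls : ∀ u ∈ X0, u ∉ X1 → u * c0 ∈ X1 := by
      intro u hu hu1
      have hle : X1 ⊔ Subgroup.zpowers u ≤ X0 := sup_le hX1 (Subgroup.zpowers_le.2 hu)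
      have hmem : c0 ∈ X1 ⊔ Subgroup.zpowers u := by
        by_contra hno
        have hlt : X1 < X1 ⊔ Subgroup.zpowers u := left_lt_sup.2 fun hle => hu1 (hle (Subgroup.mem_zpowers u))
        exact (Set.ncard_lt_ncard hlt (Set.toFinite _)).not_ge (hX1max _ ⟨hle, hno⟩)
      have hm : c0 ∈ ((X1 ⊔ Subgroup.zpowers u : Subgroup G) : Set G) := hmem
      rw [Subgroup.normal_mul] at hm
      obtain ⟨x, hx, w, hw, hxw⟩ := Set.mem_mul.1 hm
      have hu2 : u * u = 1 := JComp.elem_mul_self hBe (hX0B hu)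
      obtain ⟨i, rfl⟩ := Subgroup.mem_zpowers_iff.1 hw
      rcases Int.even_or_odd i with ⟨j, rfl⟩ | ⟨j, rfl⟩
      · rw [show u ^ (j + j) = 1 by rw [← two_mul, zpow_mul, zpow_two, hu2, one_zpow], mul_one] at hxw
        exact absurd (hxw ▸ hx) hc1
      · rw [show u ^ (2 * j + 1) = u by rw [zpow_add_one, zpow_mul, zpow_two, hu2, one_zpow, one_mul]] at hxw
        rw [← hxw, JComp.elem_comm hBe (hX0B (hX1 hx)) (hX0B hu), ← mul_assoc, hu2, one_mul]
        exact hx
    intro u hu v hv hu1 hv1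
    have h1 := X1.mul_mem (hcls u hu hu1) (hcls v hv hv1)
    have e : u * c0 * (v * c0) = u * v := by
      rw [mul_assoc, ← mul_assoc c0, JComp.elem_comm hBe (hX0B hc0) (hX0B hv), mul_assoc,
        JComp.elem_mul_self hBe (hX0B hc0), mul_one]
    rwa [e] at h1
  set B2 := B ⊓ stab K X1
  haveI : B2.Normal := inferInstanceAs (B ⊓ stab K X1).Normal
  have hB2X : B2 ⊓ X ≤ X0 := by
    refine (hmax (B2 ⊓ X) inferInstance inf_le_right).resolve_left fun hle => hc1 ?_
    simpa [hc0d, mul_inv_rev, mul_assoc] using X1.inv_mem (mem_stab.1 (hle hx0).1.2 k0 hk0)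
  have hB2c : B2 ≤ Subgroup.center G := by
    rw [← Subgroup.centralizer_univ, ← Subgroup.coe_top, ← hN]
    refine le_cent_comm (Subgroup.normalClosure_le_normal (N := Subgroup.centralizer (B2 : Set G)) ?_)
    refine JComp.jOf_le_iff.2 fun A' hA' => le_cent_comm fun b hb => ?_
    obtain ⟨x, hx, c, hc, rfl⟩ : ∃ x ∈ X, ∃ c ∈ Subgroup.centralizer (A' : Set G) ⊓ B, x * c = b := by
      have hb' : b ∈ ((X ⊔ (Subgroup.centralizer (A' : Set G) ⊓ B) : Subgroup G) : Set G) := (heq A' hA').2.1 hb.1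
      rw [Subgroup.normal_mul] at hb'
      exact Set.mem_mul.1 hb'
    refine Subgroup.mul_mem _ ((heq A' hA').1 ⟨mem_stab.2 fun r hr => ?_, hx⟩) hc.1
    have h1 : r * (x * c) * r⁻¹ * (x * c)⁻¹ ∈ X0 := hB2X
      ⟨B2.mul_mem ((inferInstance : B2.Normal).conj_mem _ hb r) (B2.inv_mem hb), hgX r _ hb.1⟩
    have e : r * (x * c) * r⁻¹ * (x * c)⁻¹ = r * x * r⁻¹ * x⁻¹ := by
      have hcr : r * c * r⁻¹ = c := by rw [Subgroup.mem_centralizer_iff.1 hc.1 r hr, mul_inv_cancel_right]
      calc r * (x * c) * r⁻¹ * (x * c)⁻¹ = r * x * r⁻¹ * (r * c * r⁻¹) * c⁻¹ * x⁻¹ := by group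
        _ = r * x * r⁻¹ * x⁻¹ := by rw [hcr]; group
    rw [e] at h1
    simpa [mul_inv_rev, mul_assoc] using X0.inv_mem h1
  have hk1 := relIndex_stab_le (X1 := X1) hkb hX0c hh
  set E := (S : Subgroup G) ⊓ K
  have hKC : K ⊓ C ⊔ E = K := by
    have hm : PReduced.pMod 2 (K ⊓ C) K := fun k hk => by
      obtain ⟨n, hn⟩ := hodd B X0 K (PLocal.elemAb_isPGroup hBe) hX0B
        (le_cent_comm (hX0c.trans (Subgroup.center_le_centralizer _))) hkb k hk
      exact ⟨n, pow_mem hk _, hn⟩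
    exact (PReduced.eq_sup_sylow_inf_of_pMod S inf_le_left hm).symm
  have hkk : C.relIndex K = C.relIndex E := by
    refine le_antisymm ?_ (Subgroup.relIndex_le_of_le_right inf_le_right Subgroup.index_ne_zero_of_finite)
    refine (Subgroup.relIndex_le_of_le_right (L := E ⊔ C) ?_ Subgroup.index_ne_zero_of_finite).trans
      (le_of_eq (Subgroup.relIndex_sup_right _ _))
    exact hKC.ge.trans (sup_le (inf_le_right.trans le_sup_right) le_sup_left)
  have hEK : E ≤ K := inf_le_right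
  have hsq : ∀ r ∈ E, r * r ∈ C := fun r hr => Subgroup.mem_centralizer_iff.2 fun b hb => by
    have hd := hkb r (hEK hr) b hb
    set d := r * b * r⁻¹ * b⁻¹ with hd'
    have hdr : r * d * r⁻¹ = d := by rw [Subgroup.mem_center_iff.1 (hX0c hd) r, mul_inv_cancel_right]
    have e : r * r * b * (r * r)⁻¹ = b := by
      calc r * r * b * (r * r)⁻¹ = (r * d * r⁻¹) * d * b := by rw [hd']; group
        _ = b := by rw [hdr, JComp.elem_mul_self hBe (hX0B hd), one_mul]
    exact (mul_inv_eq_iff_eq_mul.1 e).symm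
  have hcomm : ∀ r ∈ E, ∀ s ∈ E, r * s * r⁻¹ * s⁻¹ ∈ C := fun r hr s hs =>
    Subgroup.mem_centralizer_iff.2 fun b hb => by
    set d := r * b * r⁻¹ * b⁻¹ with hd'
    set e := s * b * s⁻¹ * b⁻¹ with he'
    have hd := hkb r (hEK hr) b hb
    have he := hkb s (hEK hs) b hb
    have cd : ∀ g : G, g * d * g⁻¹ = d := fun g => by rw [Subgroup.mem_center_iff.1 (hX0c hd) g, mul_inv_cancel_right]
    have ce : ∀ g : G, g * e * g⁻¹ = e := fun g => by rw [Subgroup.mem_center_iff.1 (hX0c he) g, mul_inv_cancel_right]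
    have h1 : r * s * b * (r * s)⁻¹ = e * d * b := by
      calc r * s * b * (r * s)⁻¹ = (r * e * r⁻¹) * d * b := by rw [hd', he']; group
        _ = e * d * b := by rw [ce]
    have h2 : s * r * b * (s * r)⁻¹ = e * d * b := by
      calc s * r * b * (s * r)⁻¹ = (s * d * s⁻¹) * e * b := by rw [hd', he']; group
        _ = e * d * b := by rw [cd, JComp.elem_comm hBe (hX0B hd) (hX0B he)]
    have h4 : r * s * b * (r * s)⁻¹ = s * r * b * (s * r)⁻¹ := h1.trans h2.symm
    have h5 : (r * s * r⁻¹ * s⁻¹) * (s * r * b * (s * r)⁻¹) * (r * s * r⁻¹ * s⁻¹)⁻¹ = r * s * b * (r * s)⁻¹ := by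
      group
    have h6 : Commute (r * s * r⁻¹ * s⁻¹) (s * r * b * (s * r)⁻¹) := mul_inv_eq_iff_eq_mul.1 (h5.trans h4)
    have h7 : Commute (r * s * r⁻¹ * s⁻¹) d := (Subgroup.mem_center_iff.1 (hX0c hd) _)
    have h8 : Commute (r * s * r⁻¹ * s⁻¹) e := (Subgroup.mem_center_iff.1 (hX0c he) _)
    rw [h2] at h6
    have h9 : Commute (r * s * r⁻¹ * s⁻¹) ((e * d)⁻¹ * (e * d * b)) := ((h8.mul_right h7).inv_right).mul_right h6
    rw [inv_mul_cancel_left] at h9
    exact h9.symm.eq
  have h2 := chain h hAB hBle hBc (S.isPGroup'.to_inf_left) (fun g => hEK.trans (hKAg g)) hcomm hsq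
  have hle : (Subgroup.centralizer (E : Set G)).relIndex B ≤ C.relIndex E := by
    rw [← hkk]
    refine le_trans ?_ hk1
    rw [← Subgroup.inf_relIndex_right (stab K X1) B, inf_comm]
    exact Subgroup.relIndex_le_of_le_left (hB2c.trans (Subgroup.center_le_centralizer _))
      Subgroup.index_ne_zero_of_finite
  have hone : C.relIndex E = 1 := by
    have hp : 0 < C.relIndex E := Nat.pos_of_ne_zero Subgroup.index_ne_zero_of_finite
    have := h2.trans hle
    rw [pow_two] at this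
    exact le_antisymm (Nat.le_of_mul_le_mul_left (this.trans (mul_one _).ge) hp) hp
  refine hk0X ((Subgroup.centralizer_le hXB : C ≤ _) (Subgroup.relIndex_eq_one.1 (hkk.trans hone) hk0))

end

end Cfsg.Agent.SFourClosed
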