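import Cfsg.Agent.Lib.SFourClosed.Weak

/-!
A minimal pair of conjugates violating strong closure.

Main results (namespace `Cfsg.Agent.SFourClosed`):
* `MinBad S A x y`: `(A^x, A^y)` is a minimal pair with `A^y ∩ N(A^x) ⊄ A^x`;
* `MinBad.mem_of_normalizes`, `MinBad.mem_of_comm`, `MinBad.comm_le`, `MinBad.symm`: its first properties.
-/

set_option autoImplicit false
set_option linter.unusedSectionVars false
set_option linter.style.haveILetI false

namespace Cfsg.Agent.SFourClosed

open AlperinFamily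

universe u

section
variable {G : Type u} [Group G] [Finite G]

/-- `cj x A ∩ N(cj y A)`. -/
def meetN (A : Subgroup G) (x y : G) : Subgroup G :=
  cj x A ⊓ Subgroup.normalizer ((cj y A : Subgroup G) : Set G)

/-- The join of two conjugates of `J(S)`. -/
def joinJ (S : Sylow 2 G) (x y : G) : Subgroup G :=
  cj x (Cfsg.thompsonSubgroupOf 2 (S : Subgroup G)) ⊔ cj y (Cfsg.thompsonSubgroupOf 2 (S : Subgroup G))

/-- The measure of a pair. -/
noncomputable def meas (A : Subgroup G) (x y : G) : ℕ :=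
  (meetN A x y).relIndex (cj x A) + (meetN A y x).relIndex (cj y A)

/-- Strong closure fails for the pair. -/
def Bad (A : Subgroup G) (x y : G) : Prop := ¬ meetN A y x ≤ cj x A

/-- A minimal bad pair. -/
def MinBad (S : Sylow 2 G) (A : Subgroup G) (x y : G) : Prop :=
  Bad A x y ∧ ∀ x' y', (Nat.card (joinJ S x' y') < Nat.card (joinJ S x y) ∨
    (Nat.card (joinJ S x' y') = Nat.card (joinJ S x y) ∧ meas A x' y' < meas A x y)) → ¬ Bad A x' y'

theorem conj_conj {H : Type*} [Group H] {a : H} (ha : a * a = 1) (w : H) : a * (a * w * a⁻¹) * a⁻¹ = w := by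
  rw [← mul_assoc, ← mul_assoc, ha, one_mul, mul_assoc, ← mul_inv_rev, ha, inv_one, mul_one]

/-- `a v a v` for involutions. -/
def opD (v a : G) : G := a * (v * a * v)

/-- The part of `Hyp` that does not mention the bound. -/
structure Core (S : Sylow 2 G) (A : Subgroup G) : Prop where
  elem : Cfsg.IsElementaryAbelian 2 A
  le : A ≤ (S : Subgroup G)
  norm : (S : Subgroup G) ≤ Subgroup.normalizer (A : Set G)
  cent : Cfsg.thompsonSubgroupOf 2 (S : Subgroup G) ≤ Subgroup.centralizer (A : Set G)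
  normJ : Subgroup.normalizer (Cfsg.thompsonSubgroupOf 2 (S : Subgroup G) : Set G) ≤
    Subgroup.normalizer (A : Set G)

theorem Core.le_jOf {S : Sylow 2 G} {A : Subgroup G} (h : Core S A) :
    A ≤ Cfsg.thompsonSubgroupOf 2 (S : Subgroup G) :=
  le_jOf_of_cent h.elem h.le h.cent

/-- A weakly closed subgroup centralised by `J(S)`. -/
structure PairSetting (S : Sylow 2 G) (A : Subgroup G) : Prop where
  core : Core S A
  weak : ∀ g, cj g A ≤ Subgroup.normalizer (A : Set G) → cj g A = A

/-- The properties of `A` used from here on. -/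
structure Setting (S : Sylow 2 G) (A : Subgroup G) : Prop where
  hyp : Hyp S A
  weak : ∀ g, cj g A ≤ Subgroup.normalizer (A : Set G) → cj g A = A

theorem Setting.pair {S : Sylow 2 G} {A : Subgroup G} (h : Setting S A) : PairSetting S A :=
  ⟨⟨h.hyp.elem, h.hyp.le, h.hyp.norm, h.hyp.cent, h.hyp.normJ⟩, h.weak⟩

variable {S : Sylow 2 G} {A : Subgroup G}

theorem PairSetting.elem (h : PairSetting S A) (x : G) : Cfsg.IsElementaryAbelian 2 (cj x A) :=
  (PLocal.elemAb_map_iff_of_injOn (MulAut.conj x).injective.injOn le_rfl).2 h.core.elem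

theorem PairSetting.mul_self (h : PairSetting S A) {x a : G} (ha : a ∈ cj x A) : a * a = 1 :=
  JComp.elem_mul_self (h.elem x) ha

theorem PairSetting.inv_eq (h : PairSetting S A) {x a : G} (ha : a ∈ cj x A) : a⁻¹ = a :=
  inv_eq_of_mul_eq_one_right (h.mul_self ha)

theorem PairSetting.comm (h : PairSetting S A) {x a b : G} (ha : a ∈ cj x A) (hb : b ∈ cj x A) : a * b = b * a :=
  JComp.elem_comm (h.elem x) ha hb

theorem PairSetting.le_cjJ (h : PairSetting S A) (x : G) :
    cj x A ≤ cj x (Cfsg.thompsonSubgroupOf 2 (S : Subgroup G)) := Subgroup.map_mono h.core.le_jOf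

theorem PairSetting.cjJ_cent (h : PairSetting S A) (x : G) :
    cj x (Cfsg.thompsonSubgroupOf 2 (S : Subgroup G)) ≤ Subgroup.centralizer ((cj x A : Subgroup G) : Set G) := by
  rw [← cj_cent]; exact Subgroup.map_mono h.core.cent

theorem PairSetting.weak' (h : PairSetting S A) {x y : G}
    (hle : cj y A ≤ Subgroup.normalizer ((cj x A : Subgroup G) : Set G)) : cj y A = cj x A := by
  have h1 := cj_le_normalizer x⁻¹ hle
  rw [cj_cj, cj_cj, inv_mul_cancel, cj_one] at h1
  have h2 := congrArg (cj x) (h.weak _ h1)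
  rwa [cj_cj, mul_inv_cancel_left] at h2

/-- A 2-group above `cj x J(S)`. -/
theorem PairSetting.sylow_cj (h : PairSetting S A) {P : Subgroup G} (hP : IsPGroup 2 P) (x : G)
    (hJ : cj x (Cfsg.thompsonSubgroupOf 2 (S : Subgroup G)) ≤ P) :
    Cfsg.thompsonSubgroupOf 2 P = cj x (Cfsg.thompsonSubgroupOf 2 (S : Subgroup G)) ∧
      P ≤ Subgroup.normalizer ((cj x A : Subgroup G) : Set G) := by
  have hJ' : Cfsg.thompsonSubgroupOf 2 (S : Subgroup G) ≤ cj x⁻¹ P := by
    have : cj x⁻¹ (cj x (Cfsg.thompsonSubgroupOf 2 (S : Subgroup G))) ≤ cj x⁻¹ P := Subgroup.map_mono hJ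
    rwa [cj_cj, inv_mul_cancel, cj_one] at this
  obtain ⟨h1, h2⟩ := jOf_of_le S (hP.map _) hJ'
  refine ⟨?_, ?_⟩
  · have := congrArg (cj x) h1
    rw [show cj x (Cfsg.thompsonSubgroupOf 2 (cj x⁻¹ P)) = Cfsg.thompsonSubgroupOf 2 (cj x (cj x⁻¹ P)) from
      (JComp.jOf_conj x _).symm, cj_cj, mul_inv_cancel, cj_one] at this
    exact this
  · have := cj_le_normalizer x (h2.trans h.core.normJ)
    rwa [cj_cj, mul_inv_cancel, cj_one] at this

variable (h : PairSetting S A) {x y : G}
include h

theorem PairSetting.meet_le_N (x y : G) : cj x A ⊓ cj y A ≤ meetN A x y :=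
  inf_le_inf_left _ Subgroup.le_normalizer

theorem PairSetting.meet_cent (x y : G) : cj x A ⊓ cj y A ≤ Subgroup.centralizer (joinJ S x y : Set G) :=
  le_cent_comm (sup_le (le_cent_comm (inf_le_left.trans (le_cent_comm (h.cjJ_cent x))))
    (le_cent_comm (inf_le_right.trans (le_cent_comm (h.cjJ_cent y)))))

/-- The two conjugates are conjugate in the join. -/
theorem PairSetting.exists_link (x y : G) : ∃ l ∈ joinJ S x y,
    cj l (cj x A) = cj y A ∧
      cj l (cj x (Cfsg.thompsonSubgroupOf 2 (S : Subgroup G))) =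
        cj y (Cfsg.thompsonSubgroupOf 2 (S : Subgroup G)) := by
  have hJp : ∀ z : G, IsPGroup 2 (cj z (Cfsg.thompsonSubgroupOf 2 (S : Subgroup G))) := fun z =>
    (S.isPGroup'.to_le (JComp.jOf_le _)).map _
  obtain ⟨P, hP, hxP⟩ := JComp.exists_sylowTwo_ge (hJp x) (le_sup_left : _ ≤ joinJ S x y)
  obtain ⟨P', hP', hyP⟩ := JComp.exists_sylowTwo_ge (hJp y) (le_sup_right : _ ≤ joinJ S x y)
  obtain ⟨l, hl, hle⟩ := JComp.exists_conj_le hP hP'.2.1 hP'.1
  have hJ : cj l (cj x (Cfsg.thompsonSubgroupOf 2 (S : Subgroup G))) =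
      cj y (Cfsg.thompsonSubgroupOf 2 (S : Subgroup G)) := by
    have he : cj l P = P' := JComp.eq_of_le_twoGroup hP' (hP.2.1.map _) (JComp.sylowTwo_conj' hP hl).1 hle
    rw [← (h.sylow_cj hP.2.1 x hxP).1, ← (h.sylow_cj hP'.2.1 y hyP).1, show cj l (Cfsg.thompsonSubgroupOf 2 P) = Cfsg.thompsonSubgroupOf 2 (cj l P) from (JComp.jOf_conj l P).symm, he]
  refine ⟨l, hl, ?_, hJ⟩
  rw [cj_cj] at hJ ⊢
  have h1 := congrArg (cj y⁻¹) hJ
  rw [cj_cj, cj_cj, inv_mul_cancel, cj_one] at h1
  have h2 := congrArg (cj y) (cj_eq_iff.2 (h.core.normJ (cj_eq_iff.1 h1)))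
  rwa [cj_cj, mul_inv_cancel_left] at h2

theorem PairSetting.cent_meet {x y z : G} (hz : z ∈ cj x A) (hzc : z ∈ Subgroup.centralizer (joinJ S x y : Set G)) :
    z ∈ cj y A := by
  obtain ⟨l, hl, he, -⟩ := h.exists_link x y
  rw [← he]
  have := Subgroup.mem_centralizer_iff.1 hzc l hl
  exact ⟨z, hz, show l * z * l⁻¹ = z by rw [this, mul_inv_cancel_right]⟩

theorem PairSetting.comm_meet {u v : G} (hu : u ∈ meetN A x y) (hv : v ∈ meetN A y x) :
    u * v * u⁻¹ * v⁻¹ ∈ cj x A ⊓ cj y A := by
  refine ⟨?_, (cj y A).mul_mem ((Subgroup.mem_normalizer_iff.1 hu.2 v).1 hv.1) ((cj y A).inv_mem hv.1)⟩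
  have := (cj x A).mul_mem hu.1 ((Subgroup.mem_normalizer_iff.1 hv.2 u⁻¹).1 ((cj x A).inv_mem hu.1))
  simpa [mul_assoc] using this

omit h

theorem bad_ne (hb : Bad A x y) : cj y A ≠ cj x A := fun he => hb (inf_le_left.trans he.le)

include h

theorem MinBad.mem_of_normalizes (hm : MinBad S A x y) {a : G} (ha : a ∈ cj x A)
    (han : a ∈ Subgroup.normalizer (meetN A y x : Set G)) : a ∈ meetN A x y := by
  set J := Cfsg.thompsonSubgroupOf 2 (S : Subgroup G)
  set U := meetN A x y
  set V := meetN A y x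
  by_contra haU
  set H := joinJ S x y ⊓ Subgroup.normalizer (V : Set G)
  have hyH : cj y J ≤ H := le_inf le_sup_right
    ((h.cjJ_cent y).trans ((Subgroup.centralizer_le inf_le_left).trans (Subgroup.centralizer_le_normalizer _)))
  have hUH : U ≤ H := fun u hu => ⟨Subgroup.mem_sup_left (h.le_cjJ x hu.1),
    Subgroup.mem_normalizer_iff.2 fun v => by
      have key : ∀ w ∈ U, ∀ v ∈ V, w * v * w⁻¹ ∈ V := fun w hw v hv => by
        have := V.mul_mem (inf_le_inf_left _ Subgroup.le_normalizer
          (⟨(h.comm_meet hw hv).2, (h.comm_meet hw hv).1⟩ : _ ∈ cj y A ⊓ cj x A)) hv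
        simpa [mul_assoc] using this
      exact ⟨key u hu v, fun hv => by simpa [mul_assoc] using key u⁻¹ (U.inv_mem hu) _ hv⟩⟩
  have hVp : IsPGroup 2 (U ⊔ Subgroup.zpowers a : Subgroup G) :=
    (PLocal.elemAb_isPGroup (h.elem x)).to_le (sup_le inf_le_left (Subgroup.zpowers_le.2 ha))
  obtain ⟨P, hP, hyP⟩ := JComp.exists_sylowTwo_ge ((S.isPGroup'.to_le (JComp.jOf_le _)).map _) hyH
  obtain ⟨k, hk, hle⟩ := JComp.exists_conj_le hP hVp
    (sup_le hUH (Subgroup.zpowers_le.2 ⟨Subgroup.mem_sup_left (h.le_cjJ x ha), han⟩))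
  have hnew : U ⊔ Subgroup.zpowers a ≤ Subgroup.normalizer ((cj (k * y) A : Subgroup G) : Set G) := by
    rw [← cj_cj]
    exact hle.trans (cj_le_normalizer k (h.sylow_cj hP.2.1 y hyP).2)
  have hkL : joinJ S x (k * y) ≤ joinJ S x y := sup_le le_sup_left (by
    rw [← cj_cj]
    rintro _ ⟨j, hj, rfl⟩
    exact (joinJ S x y).mul_mem ((joinJ S x y).mul_mem hk.1 (Subgroup.mem_sup_right hj)) ((joinJ S x y).inv_mem hk.1))
  have hV' : V ≤ meetN A (k * y) x := by
    refine le_inf ?_ inf_le_right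
    rw [← cj_cj, ← cj_eq_iff.2 hk.2]
    exact Subgroup.map_mono inf_le_left
  refine hm.2 x (k * y) ?_ fun hg => hm.1 (hV'.trans hg)
  rcases (Subgroup.card_le_of_le hkL).lt_or_eq with hlt | heq
  · exact Or.inl hlt
  refine Or.inr ⟨heq, ?_⟩
  have h1 : (meetN A x (k * y)).relIndex (cj x A) < U.relIndex (cj x A) := by
    have hUlt : U < meetN A x (k * y) := lt_of_le_of_ne (le_inf inf_le_left (le_sup_left.trans hnew))
      fun he => haU (he.ge ⟨ha, hnew (Subgroup.mem_sup_right (Subgroup.mem_zpowers a))⟩)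
    have e := Subgroup.relIndex_mul_relIndex U (meetN A x (k * y)) (cj x A) hUlt.le inf_le_left
    have h2 : 1 < U.relIndex (meetN A x (k * y)) := Nat.one_lt_iff_ne_zero_and_ne_one.2
      ⟨Subgroup.index_ne_zero_of_finite, fun he => hUlt.not_ge (Subgroup.relIndex_eq_one.1 he)⟩
    rw [← e]
    exact lt_mul_of_one_lt_left (Nat.pos_of_ne_zero Subgroup.index_ne_zero_of_finite) h2
  have h2 : (meetN A (k * y) x).relIndex (cj (k * y) A) ≤ V.relIndex (cj y A) := by
    refine (Subgroup.relIndex_le_of_le_left hV' Subgroup.index_ne_zero_of_finite).trans (le_of_eq ?_)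
    conv_lhs => rw [← cj_cj, ← cj_eq_iff.2 hk.2]
    exact relIndex_cj k _ _
  exact Nat.add_lt_add_of_lt_of_le h1 h2

theorem MinBad.mem_of_comm (hm : MinBad S A x y) {a v : G} (ha : a ∈ cj x A)
    (hau : ∀ w ∈ meetN A y x, opD w a ∈ meetN A x y) (hv : v ∈ meetN A y x) (hv0 : v ∉ cj x A)
    (hav : opD v a ∈ cj y A) : a ∈ meetN A x y := by
  set J := Cfsg.thompsonSubgroupOf 2 (S : Subgroup G)
  set V := meetN A y x
  have haL : a ∈ joinJ S x y := Subgroup.mem_sup_left (h.le_cjJ x ha)
  have hai := h.inv_eq ha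
  have hd : ∀ w ∈ V, a * w * a⁻¹ = opD w a * w := fun w hw => by
    rw [hai, opD, mul_assoc a (w * a * w) w, mul_assoc (w * a) w w, h.mul_self hw.1, mul_one, ← mul_assoc]
  have hz := h.meet_cent x y (⟨(hau v hv).1, hav⟩ : opD v a ∈ cj x A ⊓ cj y A)
  have haJ : cj (a * y) J ≤ joinJ S x y := by
    rw [← cj_cj]
    rintro _ ⟨j, hj, rfl⟩
    exact (joinJ S x y).mul_mem ((joinJ S x y).mul_mem haL (Subgroup.mem_sup_right hj)) ((joinJ S x y).inv_mem haL)
  have hLv : joinJ S y (a * y) ≤ Subgroup.centralizer ({v} : Set G) := by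
    refine sup_le ((h.cjJ_cent y).trans (Subgroup.centralizer_le (Set.singleton_subset_iff.2 hv.1))) fun j hj => ?_
    have h1 : a * v * a⁻¹ * j = j * (a * v * a⁻¹) :=
      Subgroup.mem_centralizer_iff.1 (h.cjJ_cent (a * y) hj) _ (by rw [← cj_cj]; exact conj_mem_cj a hv.1)
    have h2 : j * opD v a = opD v a * j := Subgroup.mem_centralizer_iff.1 hz j (haJ hj)
    rw [hd v hv, mul_assoc, ← mul_assoc j, h2, mul_assoc] at h1
    exact Subgroup.mem_centralizer_iff.2 fun w hw => by rw [Set.mem_singleton_iff.1 hw]; exact mul_left_cancel h1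
  have hlt : Nat.card (joinJ S y (a * y)) < Nat.card (joinJ S x y) := by
    refine Set.ncard_lt_ncard (lt_of_le_of_ne (sup_le le_sup_right haJ) fun he => hv0 ?_ :
      joinJ S y (a * y) < joinJ S x y) (Set.toFinite _)
    refine h.cent_meet (x := y) (y := x) hv.1 (Subgroup.mem_centralizer_iff.2 fun l hl => ?_)
    rw [joinJ, sup_comm] at hl
    exact ((Subgroup.mem_centralizer_iff.1 (hLv (he.symm.le hl))) v rfl).symm
  have hgood : meetN A (a * y) y ≤ cj y A := not_not.1 (hm.2 y (a * y) (Or.inl hlt))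
  refine hm.mem_of_normalizes h ha (Subgroup.mem_normalizer_iff.2 fun w => ?_)
  have key : ∀ w ∈ V, a * w * a⁻¹ ∈ V := fun w hw => by
    have h1 : a * w * a⁻¹ ∈ cj y A := hgood ⟨by rw [← cj_cj]; exact conj_mem_cj a hw.1,
      by rw [hd w hw]; exact Subgroup.mul_mem _ (hau w hw).2 (Subgroup.le_normalizer hw.1)⟩
    refine ⟨h1, ?_⟩
    rw [hd w hw]
    exact Subgroup.mul_mem _ (Subgroup.le_normalizer (hau w hw).1) hw.2
  exact ⟨key w, fun hw => conj_conj (h.mul_self ha) w ▸ key _ hw⟩

theorem PairSetting.opD_mem {a v : G} (ha : a ∈ cj x A) (hv : v ∈ meetN A y x) : opD v a ∈ cj x A :=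
  (cj x A).mul_mem ha (by simpa [h.inv_eq hv.1] using (Subgroup.mem_normalizer_iff.1 hv.2 a).1 ha)

theorem PairSetting.opD_meet {u v : G} (hu : u ∈ meetN A x y) (hv : v ∈ meetN A y x) :
    opD v u ∈ cj x A ⊓ cj y A := by
  have := h.comm_meet hu hv
  rw [h.inv_eq hu.1, h.inv_eq hv.1] at this
  simpa [opD, mul_assoc] using this

/-- `[A^x, A^y ∩ N(A^x)] ≤ A^x ∩ N(A^y)`. -/
theorem MinBad.comm_le (hm : MinBad S A x y) {a v : G} (ha : a ∈ cj x A) (hv : v ∈ meetN A y x) :
    opD v a ∈ meetN A x y := by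
  by_contra hbad
  have hF : ∀ F : Set G, F.Finite → F ⊆ (meetN A y x : Set G) → ∃ b ∈ cj x A, ∃ w ∈ meetN A y x,
      opD w b ∉ meetN A x y ∧ ∀ v' ∈ F, opD v' (opD w b) ∈ meetN A x y := by
    intro F hFf
    induction F, hFf using Set.Finite.induction_on with
    | empty => exact fun _ => ⟨a, ha, v, hv, hbad, fun _ hh => absurd hh (Set.notMem_empty _)⟩
    | @insert v' F _ _ ihF =>
      intro hsub
      obtain ⟨hv', hsub'⟩ := Set.insert_subset_iff.1 hsub
      obtain ⟨b, hb, w, hw, hwb, hall⟩ := ihF hsub'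
      set c := opD w b with hc
      have hcA : c ∈ cj x A := h.opD_mem hb hw
      by_cases hcv : opD v' c ∈ meetN A x y
      · refine ⟨b, hb, w, hw, hwb, fun z hz => ?_⟩
        rcases Set.mem_insert_iff.1 hz with rfl | hz
        · exact hcv
        · exact hall z hz
      refine ⟨c, hcA, v', hv', hcv, fun z hz => ?_⟩
      rcases Set.mem_insert_iff.1 hz with rfl | hz
      · have e : opD z (opD z c) = 1 := by
          have hzz := h.mul_self hv'.1
          have hmem : z * c * z ∈ cj x A := by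
            simpa [h.inv_eq hv'.1] using (Subgroup.mem_normalizer_iff.1 hv'.2 c).1 hcA
          have h1 : z * (c * (z * c * z)) * z = c * (z * c * z) := by
            calc z * (c * (z * c * z)) * z = (z * c * z) * c * (z * z) := by group
              _ = c * (z * c * z) := by rw [hzz, mul_one, h.comm hmem hcA]
          show opD z c * (z * opD z c * z) = 1
          rw [opD, h1]
          exact h.mul_self ((cj x A).mul_mem hcA hmem)
        rw [e]; exact one_mem _
      · have hzV := hsub' hz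
        have he : opD z (opD v' c) = opD v' (opD z c) := by
          have hcom : z * v' = v' * z := h.comm hzV.1 hv'.1
          have hz2 := h.mul_self hzV.1
          have hv2 := h.mul_self hv'.1
          have hm1 : z * c * z ∈ cj x A := by
            simpa [h.inv_eq hzV.1] using (Subgroup.mem_normalizer_iff.1 hzV.2 c).1 hcA
          have hm2 : v' * c * v' ∈ cj x A := by
            simpa [h.inv_eq hv'.1] using (Subgroup.mem_normalizer_iff.1 hv'.2 c).1 hcA
          have hm3 : z * (v' * c * v') * z ∈ cj x A := by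
            simpa [h.inv_eq hzV.1] using (Subgroup.mem_normalizer_iff.1 hzV.2 _).1 hm2
          have e3 : v' * (z * c * z) * v' = z * (v' * c * v') * z := by
            calc v' * (z * c * z) * v' = (v' * z) * c * (z * v') := by group
              _ = (z * v') * c * (v' * z) := by rw [hcom]
              _ = _ := by group
          simp only [opD]
          rw [show z * (c * (v' * c * v')) * z = (z * c * z) * (z * (v' * c * v') * z) by
              calc z * (c * (v' * c * v')) * z = z * c * 1 * (v' * c * v') * z := by group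
                _ = z * c * (z * z) * (v' * c * v') * z := by rw [hz2]
                _ = _ := by group,
            show v' * (c * (z * c * z)) * v' = (v' * c * v') * (v' * (z * c * z) * v') by
              calc v' * (c * (z * c * z)) * v' = v' * c * 1 * (z * c * z) * v' := by group
                _ = v' * c * (v' * v') * (z * c * z) * v' := by rw [hv2]
                _ = _ := by group, e3]
          rw [mul_assoc c, ← mul_assoc (v' * c * v'), h.comm hm2 hm1, mul_assoc (z * c * z), ← mul_assoc c]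
        rw [he]
        exact Subgroup.mem_inf.2 ⟨h.opD_mem (hall z hz).1 hv', Subgroup.mul_mem _ (hall z hz).2
          (by
            have h1 := h.opD_meet (hall z hz) hv'
            have h2 : v' * opD z c * v' = (opD z c)⁻¹ * opD v' (opD z c) := by simp [opD, mul_assoc]
            rw [h2]
            exact Subgroup.mul_mem _ (Subgroup.inv_mem _ (hall z hz).2) (Subgroup.le_normalizer h1.2))⟩
  obtain ⟨b, hb, w, hw, hwb, hall⟩ := hF _ (Set.toFinite _) le_rfl
  refine hwb (hm.mem_of_comm h (h.opD_mem hb hw) hall hw ?_ ?_)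
  · intro hwx
    refine hwb ?_
    have : opD w b = 1 := by
      rw [opD, h.comm hwx hb, mul_assoc b w w, h.mul_self hw.1, mul_one, h.mul_self hb]
    rw [this]; exact one_mem _
  · have : opD w (opD w b) = 1 := by
      have hc := h.opD_mem hb hw
      have hmem : w * b * w ∈ cj x A := by
        simpa [h.inv_eq hw.1] using (Subgroup.mem_normalizer_iff.1 hw.2 b).1 hb
      have h1 : w * opD w b * w = opD w b := by
        calc w * opD w b * w = (w * b * w) * b * (w * w) := by rw [opD]; group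
          _ = opD w b := by rw [h.mul_self hw.1, mul_one, opD, h.comm hmem hb]
      show opD w b * (w * opD w b * w) = 1
      rw [h1, h.mul_self hc]
    rw [this]; exact one_mem _

theorem MinBad.one_lt (hm : MinBad S A x y) : ∃ a ∈ cj x A, a ∉ meetN A x y := by
  by_contra hcon
  push Not at hcon
  exact bad_ne hm.1 (h.weak' (fun a ha => (hcon a ha).2)).symm

theorem MinBad.symm (hm : MinBad S A x y) : MinBad S A y x := by
  refine ⟨fun hU => ?_, fun x' y' hlt => hm.2 x' y' ?_⟩
  · obtain ⟨a, ha, haU⟩ := hm.one_lt h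
    refine haU (hm.mem_of_normalizes h ha (Subgroup.mem_normalizer_iff.2 fun w => ?_))
    have key : ∀ w ∈ meetN A y x, a * w * a⁻¹ ∈ meetN A y x := fun w hw => by
      have h1 := hm.comm_le h ha hw
      have e : a * w * a⁻¹ = opD w a * w := by
        rw [h.inv_eq ha, opD, mul_assoc a (w * a * w) w, mul_assoc (w * a) w w, h.mul_self hw.1, mul_one, ← mul_assoc]
      rw [e]
      exact Subgroup.mul_mem _ (h.meet_le_N y x ⟨hU h1, h1.1⟩) hw
    exact ⟨key w, fun hw => conj_conj (h.mul_self ha) w ▸ key _ hw⟩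
  · rwa [joinJ, joinJ, sup_comm (cj x _), show meas A x y = meas A y x from Nat.add_comm _ _]

end

end Cfsg.Agent.SFourClosed
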