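import Cfsg.Agent.Lib.SFourClosed.Pair
import Cfsg.Agent.Lib.SFourOffender.Basic

/-!
Strong closure.

Main results (namespace `Cfsg.Agent.SFourClosed`):
* `MinBad.exists_opD`, `MinBad.twist`: the structure of a minimal bad pair;
* `meet_normalizer_le`: in an `S₄`-free group `cj g A ∩ N(A) ≤ A`.
-/

set_option autoImplicit false
set_option linter.unusedSectionVars false
set_option linter.style.haveILetI false

namespace Cfsg.Agent.SFourClosed

open AlperinFamily

universe u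

section
variable {G : Type u} [Group G] [Finite G] {S : Sylow 2 G} {A : Subgroup G} {x y : G}

theorem opD_conj {a v : G} (ha : a * a = 1) (hv : v * v = 1) : a * v * a⁻¹ = opD v a * v := by
  rw [inv_eq_of_mul_eq_one_right ha, opD, mul_assoc a (v * a * v) v, mul_assoc (v * a) v v, hv, mul_one,
    ← mul_assoc]

variable (h : PairSetting S A)
include h

theorem PairSetting.opD_map_mul {v : G} (hv : v ∈ meetN A y x) {a b : G} (ha : a ∈ cj x A) (hb : b ∈ cj x A) :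
    opD v (a * b) = opD v a * opD v b := by
  have hv2 := h.mul_self hv.1
  have hm : v * a * v ∈ cj x A := by
    simpa [h.inv_eq hv.1] using (Subgroup.mem_normalizer_iff.1 hv.2 a).1 ha
  have e : v * (a * b) * v = (v * a * v) * (v * b * v) := by
    calc v * (a * b) * v = v * a * 1 * b * v := by group
      _ = v * a * (v * v) * b * v := by rw [hv2]
      _ = _ := by group
  show a * b * (v * (a * b) * v) = a * (v * a * v) * (b * (v * b * v))
  rw [e, mul_assoc a b, ← mul_assoc b, h.comm hb hm, mul_assoc (v * a * v) b, ← mul_assoc a]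

theorem MinBad.comm_surj (hm : MinBad S A x y) :
    (cj x A).relIndex (meetN A y x) ≤ (cj y A).relIndex (meetN A x y) ∧
      (Bound A → (cj y A).relIndex (meetN A x y) ≤ (cj x A).relIndex (meetN A y x) →
        ∀ v ∈ meetN A y x, v ∉ cj x A → ∀ u ∈ meetN A x y, ∃ a ∈ cj x A, opD v a * u ∈ cj y A) := by
  set A1 := cj x A with hA1
  set A2 := cj y A with hA2
  set U1 := meetN A x y with hU1
  set U2 := meetN A y x with hU2
  haveI : (A2.subgroupOf A1).Normal := ⟨fun n hn g => by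
    rwa [show g * n = n * g from Subtype.ext (h.comm g.2 n.2), mul_inv_cancel_right]⟩
  let π := QuotientGroup.mk' (A2.subgroupOf A1)
  have hcard : Nat.card ((U1.subgroupOf A1).map π) = A2.relIndex U1 := by
    rw [← Subgroup.relIndex_ker, QuotientGroup.ker_mk']
    exact Subgroup.relIndex_subgroupOf inf_le_left
  have hπ : ∀ {p : G} (hp : p ∈ A1), p ∈ A2 → π ⟨p, hp⟩ = 1 := fun hp hp2 => (QuotientGroup.eq_one_iff _).2 hp2
  obtain ⟨a0, ha0, ha0U⟩ := hm.one_lt h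
  let g : ↥U2 →* ↥A1 ⧸ A2.subgroupOf A1 := MonoidHom.mk' (fun v => π ⟨opD (v : G) a0, h.opD_mem ha0 v.2⟩) (by
    rintro ⟨v, hv⟩ ⟨w, hw⟩
    set D := opD w a0 with hD
    have hDU : D ∈ U1 := hm.comm_le h ha0 hw
    have hv2 := h.mul_self hv.1
    have e1 : w * a0 * w = a0 * D := by rw [hD, opD, ← mul_assoc a0 a0, h.mul_self ha0, one_mul]
    have e2 : v * w * a0 * (v * w) = v * (w * a0 * w) * v := by
      rw [show v * w * a0 * (v * w) = v * w * a0 * (w * v) by rw [h.comm hv.1 hw.1]]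
      group
    have e : opD (v * w) a0 = opD v a0 * (D * (D * (v * D * v))) := by
      rw [show opD (v * w) a0 = a0 * (v * w * a0 * (v * w)) from rfl, e2, e1, ← mul_assoc D D,
        h.mul_self hDU.1, one_mul]
      calc a0 * (v * (a0 * D) * v) = a0 * v * a0 * 1 * D * v := by group
        _ = a0 * v * a0 * (v * v) * D * v := by rw [hv2]
        _ = opD v a0 * (v * D * v) := by rw [opD]; group
    have hz : π ⟨opD v D, h.opD_mem hDU.1 hv⟩ = 1 := hπ _ (h.opD_meet hDU hv).2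
    show π ⟨opD (v * w) a0, _⟩ = π ⟨opD v a0, _⟩ * π ⟨opD w a0, _⟩
    rw [← map_mul]
    calc π ⟨opD (v * w) a0, _⟩ = π ((⟨opD v a0, h.opD_mem ha0 hv⟩ * ⟨D, hDU.1⟩) * ⟨opD v D, h.opD_mem hDU.1 hv⟩) :=
          congrArg π (Subtype.ext (e.trans (mul_assoc _ _ _).symm))
      _ = π (⟨opD v a0, h.opD_mem ha0 hv⟩ * ⟨D, hDU.1⟩) := by rw [map_mul, hz, mul_one])
  have hgk : g.ker ≤ A1.subgroupOf U2 := fun v hv => by
    have h0 : (⟨opD (v : G) a0, h.opD_mem ha0 v.2⟩ : ↥A1) ∈ A2.subgroupOf A1 := (QuotientGroup.eq_one_iff _).1 hv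
    by_contra hv1
    exact ha0U (hm.mem_of_comm h ha0 (fun w hw => hm.comm_le h ha0 hw) v.2 hv1 h0)
  have h1 : A1.relIndex U2 ≤ A2.relIndex U1 := by
    calc A1.relIndex U2 ≤ g.ker.index := Nat.le_of_dvd (Nat.pos_of_ne_zero Subgroup.index_ne_zero_of_finite)
          (Subgroup.index_dvd_of_le hgk)
      _ = Nat.card g.range := Subgroup.index_ker g
      _ ≤ Nat.card ((U1.subgroupOf A1).map π) := Subgroup.card_le_of_le (by
          rintro _ ⟨v, rfl⟩
          exact ⟨⟨opD (v : G) a0, h.opD_mem ha0 v.2⟩, hm.comm_le h ha0 v.2, rfl⟩)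
      _ = _ := hcard
  refine ⟨h1, fun hbd h2 v hv hv1 u hu => ?_⟩
  let f : ↥A1 →* ↥A1 ⧸ A2.subgroupOf A1 := MonoidHom.mk' (fun a => π ⟨opD v (a : G), h.opD_mem a.2 hv⟩)
    (fun a b => by rw [← map_mul]; exact congrArg π (Subtype.ext (h.opD_map_mul hv a.2 b.2)))
  have hfk : f.ker ≤ U1.subgroupOf A1 := fun a ha => by
    have h0 : (⟨opD v (a : G), h.opD_mem a.2 hv⟩ : ↥A1) ∈ A2.subgroupOf A1 := (QuotientGroup.eq_one_iff _).1 ha
    exact hm.mem_of_comm h a.2 (fun w hw => hm.comm_le h a.2 hw) hv hv1 h0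
  have hle : f.range ≤ (U1.subgroupOf A1).map π := by
    rintro _ ⟨a, rfl⟩
    exact ⟨⟨opD v (a : G), h.opD_mem a.2 hv⟩, hm.comm_le h a.2 hv, rfl⟩
  -- the 2F bound
  have hb := hbd.cj x U2 inf_le_right ((PLocal.elemAb_isPGroup (h.elem y)).to_le inf_le_left)
    (fun r hr s hs => by rw [h.comm hr.1 hs.1, mul_inv_cancel_right, mul_inv_cancel]; exact one_mem _)
    (fun r hr => by rw [h.mul_self hr.1]; exact one_mem _)
  have hCA : Subgroup.centralizer (A1 : Set G) ⊓ U2 ≤ A1 := by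
    rintro w ⟨hwc, hw⟩
    by_contra hw1
    refine ha0U (hm.mem_of_comm h ha0 (fun z hz => hm.comm_le h ha0 hz) hw hw1 ?_)
    rw [opD, ← Subgroup.mem_centralizer_iff.1 hwc a0 ha0, mul_assoc a0 w w, h.mul_self hw.1, mul_one,
      h.mul_self ha0]
    exact one_mem _
  have hb1 : A1.relIndex U2 ≤ (Subgroup.centralizer (A1 : Set G)).relIndex U2 := by
    rw [← Subgroup.inf_relIndex_right (Subgroup.centralizer (A1 : Set G)) U2]
    exact Subgroup.relIndex_le_of_le_left hCA Subgroup.index_ne_zero_of_finite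
  have hb2 : (Subgroup.centralizer (U2 : Set G)).relIndex A1 ≤ A2.relIndex U1 * U1.relIndex A1 := by
    have e := Subgroup.relIndex_inf_mul_relIndex (H := A2) (K := U1) (L := A1)
    rw [inf_eq_left.2 (show U1 ≤ A1 from inf_le_left)] at e
    rw [e]
    refine Subgroup.relIndex_le_of_le_left ?_ Subgroup.index_ne_zero_of_finite
    refine le_cent_comm fun w hw => Subgroup.mem_centralizer_iff.2 fun z hz => ?_
    exact h.comm hz.1 hw.1
  have hq : A2.relIndex U1 ≤ U1.relIndex A1 := by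
    have h3 := ((Nat.pow_le_pow_left (h2.trans hb1) 2).trans hb).trans hb2
    rw [pow_two] at h3
    exact Nat.le_of_mul_le_mul_left h3 (Nat.pos_of_ne_zero Subgroup.index_ne_zero_of_finite)
  have heq : f.range = (U1.subgroupOf A1).map π := by
    refine Subgroup.eq_of_le_of_card_ge hle ?_
    rw [hcard, ← Subgroup.index_ker f]
    exact hq.trans (Nat.le_of_dvd (Nat.pos_of_ne_zero Subgroup.index_ne_zero_of_finite)
      (Subgroup.index_dvd_of_le hfk))
  obtain ⟨a, ha⟩ : π ⟨u, hu.1⟩ ∈ f.range := heq ▸ ⟨⟨u, hu.1⟩, hu, rfl⟩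
  have h3 : opD v (a : G) / u ∈ A2 :=
    ((QuotientGroup.eq_iff_div_mem (x := (⟨opD v (a : G), h.opD_mem a.2 hv⟩ : ↥A1)) (y := ⟨u, hu.1⟩)).1 ha :
      (⟨opD v (a : G), h.opD_mem a.2 hv⟩ : ↥A1) / ⟨u, hu.1⟩ ∈ A2.subgroupOf A1)
  rw [div_eq_mul_inv, h.inv_eq hu.1] at h3
  exact ⟨a, a.2, h3⟩

theorem MinBad.exists_opD (hb : Bound A) (hm : MinBad S A x y) {v : G} (hv : v ∈ meetN A y x) (hv1 : v ∉ cj x A) {u : G}
    (hu : u ∈ meetN A x y) : ∃ a ∈ cj x A, opD v a * u ∈ cj y A :=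
  (hm.comm_surj h).2 hb ((hm.symm h).comm_surj h).1 v hv hv1 u hu

theorem MinBad.twist (hm : MinBad S A x y) {a a' : G} (ha : a ∈ cj x A) (ha' : a' ∈ cj y A)
    (hlt : Nat.card (joinJ S (a * y) (a' * x)) < Nat.card (joinJ S x y)) :
    ∀ u ∈ meetN A x y, opD (opD u a') a * u ∈ cj y A := by
  intro u hu
  have hgood : meetN A (a' * x) (a * y) ≤ cj (a * y) A := not_not.1 (hm.2 _ _ (Or.inl hlt))
  set v := opD u a' with hv
  have hvU : v ∈ meetN A y x := (hm.symm h).comm_le h ha' hu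
  have hai := h.inv_eq ha
  have hD : a⁻¹ * (v * u) * a = opD v a * v * u := by
    rw [← opD_conj (h.mul_self ha) (h.mul_self hvU.1), hai, mul_assoc, mul_assoc, h.comm hu.1 ha]
    group
  have hmem : v * u ∈ meetN A (a' * x) (a * y) := by
    refine ⟨?_, ?_⟩
    · rw [hv, ← opD_conj (h.mul_self ha') (h.mul_self hu.1), ← cj_cj]
      exact conj_mem_cj a' hu.1
    · rw [← cj_cj, ← cj_normalizer]
      refine mem_cj.2 ?_
      rw [hD]
      exact Subgroup.mul_mem _ (Subgroup.mul_mem _ (hm.comm_le h ha hvU).2 (Subgroup.le_normalizer hvU.1)) hu.2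
  have h1 := hgood hmem
  rw [← cj_cj] at h1
  have h2 := mem_cj.1 h1
  rw [hD] at h2
  set D := opD v a
  have hc := h.comm_meet (x := y) (y := x) hvU hu
  set c := v * u * v⁻¹ * u⁻¹ with hcd
  have e : D * v * u = c * (D * u) * v := by
    calc D * v * u = D * (c * u * v) := by rw [hcd]; group
      _ = (D * c) * u * v := by group
      _ = c * D * u * v := by rw [h.comm (hm.comm_le h ha hvU).1 hc.2]
      _ = c * (D * u) * v := by group
  rw [e] at h2
  exact ((cj y A).mul_mem_cancel_left hc.1).1 (((cj y A).mul_mem_cancel_right hvU.1).1 h2)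

omit h

/-- `c³` fixes the member of an orbit of length three. -/
theorem cube_fix {Q : Type*} [Group Q] {c p q r : Q} (h1 : c * p * c⁻¹ = q) (h2 : c * q * c⁻¹ = r)
    (h3 : c * r * c⁻¹ = p) : c ^ 3 * p * (c ^ 3)⁻¹ = p := by
  calc c ^ 3 * p * (c ^ 3)⁻¹ = c * (c * (c * p * c⁻¹) * c⁻¹) * c⁻¹ := by simp [pow_succ, mul_assoc]
    _ = p := by rw [h1, h2, h3]

include h

/-- The calculation in a minimal bad pair. -/
theorem MinBad.involves (hb : Bound A) (hm : MinBad S A x y) : Cfsg.Involves (Equiv.Perm (Fin 4)) G := by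
  haveI : Fact (Nat.Prime 2) := ⟨Nat.prime_two⟩
  have hm' := hm.symm h
  obtain ⟨u1, hu1, hu1y⟩ := SetLike.not_le_iff_exists.1 (hm'.1)
  obtain ⟨a', ha', ha'U⟩ := hm'.one_lt h
  set v1 := opD u1 a' with hv1d
  have hv1 : v1 ∈ meetN A y x := hm'.comm_le h ha' hu1
  have hv1x : v1 ∉ cj x A := fun hv => ha'U
    (hm'.mem_of_comm h ha' (fun w hw => hm'.comm_le h ha' hw) hu1 hu1y hv)
  obtain ⟨a, ha, hau⟩ := hm.exists_opD h hb hv1 hv1x hu1
  set L := joinJ S x y with hL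
  have haL : a ∈ L := Subgroup.mem_sup_left (h.le_cjJ x ha)
  have ha'L : a' ∈ L := Subgroup.mem_sup_right (h.le_cjJ y ha')
  have hai := h.inv_eq ha
  have hai' := h.inv_eq ha'
  -- a common element of two further conjugates
  set x0 := v1 * u1 with hx0
  have hx0' : x0 ∈ cj (a' * x) A := by
    rw [hx0, hv1d, ← opD_conj (h.mul_self ha') (h.mul_self hu1.1), ← cj_cj]
    exact conj_mem_cj a' hu1.1
  have hZa : ∀ z ∈ cj x A ⊓ cj y A, z ∈ cj (a * y) A := fun z hz => by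
    rw [← cj_cj]
    exact mem_cj.2 (by
      rw [mul_assoc, h.comm hz.1 ha, ← mul_assoc, inv_mul_cancel, one_mul]; exact hz.2)
  have hzz : opD v1 a * u1 ∈ cj x A ⊓ cj y A := ⟨(cj x A).mul_mem (h.opD_mem ha hv1) hu1.1, hau⟩
  have hx0'' : x0 ∈ cj (a * y) A := by
    have h1 : a * v1 * a⁻¹ ∈ cj (a * y) A := by rw [← cj_cj]; exact conj_mem_cj a hv1.1
    rw [opD_conj (h.mul_self ha) (h.mul_self hv1.1)] at h1
    have hc := h.comm_meet (x := y) (y := x) hv1 hu1
    have e : x0 = (v1 * u1 * v1⁻¹ * u1⁻¹) * (opD v1 a * u1)⁻¹ * (opD v1 a * v1) := by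
      calc x0 = (v1 * u1 * v1⁻¹ * u1⁻¹) * u1 * v1 := by rw [hx0]; group
        _ = (v1 * u1 * v1⁻¹ * u1⁻¹) * u1⁻¹ * v1 := by rw [h.inv_eq hu1.1]
        _ = _ := by group
    rw [e]
    exact (cj (a * y) A).mul_mem ((cj (a * y) A).mul_mem (hZa _ ⟨hc.2, hc.1⟩)
      ((cj (a * y) A).inv_mem (hZa _ hzz))) h1
  have hcjL : ∀ (l z : G), l ∈ L → cj z (Cfsg.thompsonSubgroupOf 2 (S : Subgroup G)) ≤ L →
      cj (l * z) (Cfsg.thompsonSubgroupOf 2 (S : Subgroup G)) ≤ L := fun l z hl hz => by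
    rw [← cj_cj]
    rintro _ ⟨j, hj, rfl⟩
    exact L.mul_mem (L.mul_mem hl (hz hj)) (L.inv_mem hl)
  have hlt : Nat.card (joinJ S (a * y) (a' * x)) < Nat.card L := by
    have hle : joinJ S (a * y) (a' * x) ≤ L := sup_le (hcjL a y haL le_sup_right) (hcjL a' x ha'L le_sup_left)
    refine Set.ncard_lt_ncard (lt_of_le_of_ne hle fun he => hu1y ?_ : joinJ S (a * y) (a' * x) < L) (Set.toFinite _)
    have hc : ∀ l ∈ L, x0 * l = l * x0 := fun l hl => by
      rw [← he] at hl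
      refine Subgroup.mem_centralizer_iff.1 ((sup_le ?_ ?_ :
        joinJ S (a * y) (a' * x) ≤ Subgroup.centralizer ({x0} : Set G)) hl) x0 rfl
      · exact (h.cjJ_cent _).trans (Subgroup.centralizer_le (Set.singleton_subset_iff.2 hx0''))
      · exact (h.cjJ_cent _).trans (Subgroup.centralizer_le (Set.singleton_subset_iff.2 hx0'))
    have h1 : a * x0 * a⁻¹ = x0 := by rw [← hc a haL, mul_inv_cancel_right]
    have h2 : a * x0 * a⁻¹ = opD v1 a * x0 := by
      rw [hx0, ← mul_assoc (opD v1 a), ← opD_conj (h.mul_self ha) (h.mul_self hv1.1), hai]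
      rw [mul_assoc a, mul_assoc v1, h.comm hu1.1 ha, ← mul_assoc v1, ← mul_assoc a, ← mul_assoc a]
    have h3 : opD v1 a = 1 := mul_eq_right.1 (h2.symm.trans h1)
    rw [h3, one_mul] at hau
    exact hau
  have hst := hm.twist h ha ha' hlt
  have hts := hm'.twist h ha' ha (by rwa [joinJ, sup_comm, joinJ, sup_comm (cj y _)])
  -- the element of order three
  set U1 := meetN A x y with hU1
  set U2 := meetN A y x with hU2
  set W := U1 ⊔ U2 with hW
  set Z0 := cj x A ⊓ cj y A with hZ0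
  have hZc : Z0 ≤ Subgroup.centralizer (L : Set G) := h.meet_cent x y
  haveI hZn : (Z0.subgroupOf L).Normal := ⟨fun n hn g => by
    rwa [show g * n = n * g from Subtype.ext (Subgroup.mem_centralizer_iff.1 (hZc hn) g g.2), mul_inv_cancel_right]⟩
  let π := QuotientGroup.mk' (Z0.subgroupOf L)
  have h1L : U1 ≤ L := inf_le_left.trans ((h.le_cjJ x).trans le_sup_left)
  have h2L : U2 ≤ L := inf_le_left.trans ((h.le_cjJ y).trans le_sup_right)
  let P := fun (g : G) (hg : g ∈ L) => π ⟨g, hg⟩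
  have hP1 : ∀ {g : G} (hg : g ∈ L), g ∈ Z0 → P g hg = 1 := fun hg hz => (QuotientGroup.eq_one_iff _).2 hz
  have hcomm : ∀ u (hu : u ∈ U1) v (hv : v ∈ U2), P u (h1L hu) * P v (h2L hv) = P v (h2L hv) * P u (h1L hu) := by
    intro u hu v hv
    have hh := hP1 (g := u * v * u⁻¹ * v⁻¹) (L.mul_mem (L.mul_mem (L.mul_mem (h1L hu) (h2L hv))
      (L.inv_mem (h1L hu))) (L.inv_mem (h2L hv))) (h.comm_meet hu hv)
    have : P u (h1L hu) * P v (h2L hv) * (P u (h1L hu))⁻¹ * (P v (h2L hv))⁻¹ = 1 := by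
      rw [← hh]; simp only [P, ← map_inv, ← map_mul]; rfl
    rwa [mul_inv_eq_one, mul_inv_eq_iff_eq_mul] at this
  set c := a * a' with hcd
  have hcL : c ∈ L := L.mul_mem haL ha'L
  set C := P c hcL with hC
  have hconj : ∀ (g : G) (hg : g ∈ L) (w : G) (hw : w ∈ L) (r : G) (hr : r ∈ L), g * w * g⁻¹ = r →
      P g hg * P w hw * (P g hg)⁻¹ = P r hr := fun g hg w hw r hr e => by
    simp only [P, ← map_inv, ← map_mul]
    exact congrArg π (Subtype.ext e)
  have hcc : ∀ (w : G) (hw : w ∈ L),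
      C * P w hw * C⁻¹ = P a haL * (P a' ha'L * P w hw * (P a' ha'L)⁻¹) * (P a haL)⁻¹ := fun w hw => by
    rw [hC, show P c hcL = P a haL * P a' ha'L from (map_mul π ⟨a, haL⟩ ⟨a', ha'L⟩)]
    group
  have hfix1 : ∀ u (hu : u ∈ U1), C ^ 3 * P u (h1L hu) * (C ^ 3)⁻¹ = P u (h1L hu) ∧
      C ^ 2 * P u (h1L hu) * (C ^ 2)⁻¹ = P u (h1L hu) * P (opD u a') (h2L (hm'.comm_le h ha' hu)) := by
    intro u hu
    have ht := hm'.comm_le h ha' hu
    set t := opD u a' with htd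
    have hs := hm.comm_le h ha ht
    have e1 : P a haL * P u (h1L hu) * (P a haL)⁻¹ = P u (h1L hu) :=
      hconj a haL u (h1L hu) u (h1L hu) (by rw [h.comm ha hu.1, mul_inv_cancel_right])
    have e2 : P a' ha'L * P t (h2L ht) * (P a' ha'L)⁻¹ = P t (h2L ht) :=
      hconj a' ha'L t (h2L ht) t (h2L ht) (by rw [h.comm ha' ht.1, mul_inv_cancel_right])
    have e3 : P a' ha'L * P u (h1L hu) * (P a' ha'L)⁻¹ = P t (h2L ht) * P u (h1L hu) := by
      rw [hconj a' ha'L u (h1L hu) (t * u) (L.mul_mem (h2L ht) (h1L hu))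
        (opD_conj (h.mul_self ha') (h.mul_self hu.1))]
      exact map_mul π ⟨t, h2L ht⟩ ⟨u, h1L hu⟩
    have hsu : P (opD t a) (h1L hs) = P u (h1L hu) := by
      have hz := hP1 (g := opD t a * u) (L.mul_mem (h1L hs) (h1L hu))
        ⟨(cj x A).mul_mem hs.1 hu.1, hst u hu⟩
      have h1 : P (opD t a) (h1L hs) * P u (h1L hu) = 1 := (map_mul π ⟨_, h1L hs⟩ ⟨u, h1L hu⟩).symm.trans hz
      rw [eq_inv_of_mul_eq_one_left h1, ← (map_inv π _)]
      exact congrArg π (Subtype.ext (h.inv_eq hu.1))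
    have e4 : P a haL * P t (h2L ht) * (P a haL)⁻¹ = P u (h1L hu) * P t (h2L ht) := by
      rw [hconj a haL t (h2L ht) (opD t a * t) (L.mul_mem (h1L hs) (h2L ht))
        (opD_conj (h.mul_self ha) (h.mul_self ht.1)), ← hsu]
      exact map_mul π ⟨_, h1L hs⟩ ⟨t, h2L ht⟩
    have hu2 : P u (h1L hu) * P u (h1L hu) = 1 := by
      rw [← hP1 (g := 1) L.one_mem (one_mem _)]
      exact (map_mul π _ _).symm.trans (congrArg π (Subtype.ext (h.mul_self hu.1)))
    have c1 : C * P u (h1L hu) * C⁻¹ = P t (h2L ht) := by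
      rw [hcc, e3, ← conj_mul, e4, e1, hcomm u hu t ht, mul_assoc, hu2, mul_one]
    have c2 : C * P t (h2L ht) * C⁻¹ = P u (h1L hu) * P t (h2L ht) := by rw [hcc, e2, e4]
    have c3 : C * (P u (h1L hu) * P t (h2L ht)) * C⁻¹ = P u (h1L hu) := by
      have ht2 : P t (h2L ht) * P t (h2L ht) = 1 := by
        rw [← hP1 (g := 1) L.one_mem (one_mem _)]
        exact (map_mul π _ _).symm.trans (congrArg π (Subtype.ext (h.mul_self ht.1)))
      rw [← conj_mul, c1, c2, hcomm u hu t ht, ← mul_assoc, ht2, one_mul]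
    refine ⟨cube_fix c1 c2 c3, ?_⟩
    rw [pow_two, show C * C * P u (h1L hu) * (C * C)⁻¹ = C * (C * P u (h1L hu) * C⁻¹) * C⁻¹ by group, c1, c2]
  have hfix2 : ∀ v (hv : v ∈ U2), C ^ 3 * P v (h2L hv) * (C ^ 3)⁻¹ = P v (h2L hv) := by
    intro v hv
    have hs := hm.comm_le h ha hv
    set s := opD v a with hsd
    have hr := hm'.comm_le h ha' hs
    have e1 : P a haL * P s (h1L hs) * (P a haL)⁻¹ = P s (h1L hs) :=
      hconj a haL s (h1L hs) s (h1L hs) (by rw [h.comm ha hs.1, mul_inv_cancel_right])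
    have e2 : P a' ha'L * P v (h2L hv) * (P a' ha'L)⁻¹ = P v (h2L hv) :=
      hconj a' ha'L v (h2L hv) v (h2L hv) (by rw [h.comm ha' hv.1, mul_inv_cancel_right])
    have e3 : P a haL * P v (h2L hv) * (P a haL)⁻¹ = P s (h1L hs) * P v (h2L hv) := by
      rw [hconj a haL v (h2L hv) (s * v) (L.mul_mem (h1L hs) (h2L hv))
        (opD_conj (h.mul_self ha) (h.mul_self hv.1))]
      exact map_mul π ⟨s, h1L hs⟩ ⟨v, h2L hv⟩
    have hrv : P (opD s a') (h2L hr) = P v (h2L hv) := by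
      have hz := hP1 (g := opD s a' * v) (L.mul_mem (h2L hr) (h2L hv))
        ⟨hts v hv, (cj y A).mul_mem hr.1 hv.1⟩
      have h1 : P (opD s a') (h2L hr) * P v (h2L hv) = 1 := (map_mul π ⟨_, h2L hr⟩ ⟨v, h2L hv⟩).symm.trans hz
      rw [eq_inv_of_mul_eq_one_left h1, ← (map_inv π _)]
      exact congrArg π (Subtype.ext (h.inv_eq hv.1))
    have e4 : P a' ha'L * P s (h1L hs) * (P a' ha'L)⁻¹ = P v (h2L hv) * P s (h1L hs) := by
      rw [hconj a' ha'L s (h1L hs) (opD s a' * s) (L.mul_mem (h2L hr) (h1L hs))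
        (opD_conj (h.mul_self ha') (h.mul_self hs.1)), ← hrv]
      exact map_mul π ⟨_, h2L hr⟩ ⟨s, h1L hs⟩
    have hs2 : P s (h1L hs) * P s (h1L hs) = 1 := by
      rw [← hP1 (g := 1) L.one_mem (one_mem _)]
      exact (map_mul π _ _).symm.trans (congrArg π (Subtype.ext (h.mul_self hs.1)))
    have hv2 : P v (h2L hv) * P v (h2L hv) = 1 := by
      rw [← hP1 (g := 1) L.one_mem (one_mem _)]
      exact (map_mul π _ _).symm.trans (congrArg π (Subtype.ext (h.mul_self hv.1)))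
    have c1 : C * P v (h2L hv) * C⁻¹ = P s (h1L hs) * P v (h2L hv) := by rw [hcc, e2, e3]
    have c3 : C * P s (h1L hs) * C⁻¹ = P v (h2L hv) := by
      rw [hcc, e4, ← conj_mul, e3, e1, hcomm s hs v hv, mul_assoc, hs2, mul_one]
    have c2 : C * (P s (h1L hs) * P v (h2L hv)) * C⁻¹ = P s (h1L hs) := by
      rw [← conj_mul, c3, c1, hcomm s hs v hv, ← mul_assoc, hv2, one_mul]
    exact cube_fix c1 c2 c3
  set y2 := c * c with hy2
  have hy6 : y2 ^ 3 ∈ Subgroup.centralizer (W : Set G) := by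
    have key : ∀ w (hw : w ∈ L), w * w = 1 → C ^ 3 * P w hw * (C ^ 3)⁻¹ = P w hw → y2 ^ 3 * w = w * y2 ^ 3 := by
      intro w hw hw2 hfix
      have h3L : c ^ 3 ∈ L := L.pow_mem hcL 3
      have hz : c ^ 3 * w * (c ^ 3)⁻¹ * w⁻¹ ∈ Z0 := by
        have h1 : π ((⟨c, hcL⟩ : L) ^ 3 * (⟨w, hw⟩ : L) * ((⟨c, hcL⟩ : L) ^ 3)⁻¹ * (⟨w, hw⟩ : L)⁻¹) = 1 := by
          rw [map_mul, map_mul, map_mul, map_inv, map_inv, map_pow]
          exact mul_inv_eq_one.2 hfix
        exact ((QuotientGroup.eq_one_iff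
          (x := (⟨c, hcL⟩ : L) ^ 3 * (⟨w, hw⟩ : L) * ((⟨c, hcL⟩ : L) ^ 3)⁻¹ * (⟨w, hw⟩ : L)⁻¹)).1 h1 :
            (⟨c, hcL⟩ : L) ^ 3 * (⟨w, hw⟩ : L) * ((⟨c, hcL⟩ : L) ^ 3)⁻¹ * (⟨w, hw⟩ : L)⁻¹ ∈ Z0.subgroupOf L)
      set z := c ^ 3 * w * (c ^ 3)⁻¹ * w⁻¹ with hzd
      have hzz2 : z * z = 1 := h.mul_self hz.1
      have hcz : c ^ 3 * z * (c ^ 3)⁻¹ = z := by
        rw [Subgroup.mem_centralizer_iff.1 (hZc hz) _ h3L, mul_inv_cancel_right]
      have e : y2 ^ 3 = c ^ 3 * c ^ 3 := by rw [hy2, ← pow_two, ← pow_mul, ← pow_add]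
      refine mul_inv_eq_iff_eq_mul.1 ?_
      calc y2 ^ 3 * w * (y2 ^ 3)⁻¹ = (c ^ 3 * z * (c ^ 3)⁻¹) * z * w := by rw [e, hzd]; group
        _ = w := by rw [hcz, hzz2, one_mul]
    refine le_cent_comm (sup_le (le_cent_comm (Subgroup.zpowers_le.2 ?_))
      (le_cent_comm (Subgroup.zpowers_le.2 ?_))) (Subgroup.mem_zpowers (y2 ^ 3))
    · exact Subgroup.mem_centralizer_iff.2 fun w hw =>
        (key w (h1L hw) (h.mul_self hw.1) (hfix1 w hw).1).symm
    · exact Subgroup.mem_centralizer_iff.2 fun w hw =>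
        (key w (h2L hw) (h.mul_self hw.1) (hfix2 w hw)).symm
  have hy2C : y2 ∉ Subgroup.centralizer (W : Set G) := by
    intro hyc
    have h1 := (hfix1 u1 hu1).2
    have h2 : C ^ 2 * P u1 (h1L hu1) * (C ^ 2)⁻¹ = P u1 (h1L hu1) := by
      rw [pow_two, show C * C = P y2 (L.mul_mem hcL hcL) from (map_mul π ⟨c, hcL⟩ ⟨c, hcL⟩).symm]
      exact hconj _ _ _ _ _ _ (by
        rw [← Subgroup.mem_centralizer_iff.1 hyc u1 (Subgroup.mem_sup_left hu1), mul_inv_cancel_right])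
    rw [h2] at h1
    have h3 : P (opD u1 a') (h2L hv1) = 1 := left_eq_mul.1 h1
    exact hv1x ((QuotientGroup.eq_one_iff _).1 h3).1
  have hW2 : IsPGroup 2 W := by
    refine IsPGroup.to_sup_of_normal_left' ((PLocal.elemAb_isPGroup (h.elem x)).to_le inf_le_left)
      ((PLocal.elemAb_isPGroup (h.elem y)).to_le inf_le_left) fun v hv => ?_
    refine Subgroup.mem_normalizer_iff.2 fun u => ?_
    have key : ∀ u ∈ U1, v * u * v⁻¹ ∈ U1 := fun u hu => by
      have hz := h.comm_meet (x := y) (y := x) hv hu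
      simpa [mul_assoc] using U1.mul_mem (h.meet_le_N x y ⟨hz.2, hz.1⟩) hu
    exact ⟨key u, fun hu => conj_conj (h.mul_self hv.1) u ▸ key _ hu⟩
  have hnorm : ∀ g, g = a ∨ g = a' → g ∈ Subgroup.normalizer (W : Set G) := by
    intro g hg
    refine cj_eq_iff.1 (Subgroup.eq_of_le_of_card_ge ?_ (card_cj g W).ge)
    rw [hW, show cj g (U1 ⊔ U2) = cj g U1 ⊔ cj g U2 from Subgroup.map_sup _ _ _]
    rcases hg with rfl | rfl
    · refine sup_le ?_ ?_
      · rintro _ ⟨u, hu, rfl⟩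
        show g * u * g⁻¹ ∈ U1 ⊔ U2
        rw [h.comm ha hu.1, mul_inv_cancel_right]
        exact Subgroup.mem_sup_left hu
      · rintro _ ⟨v, hv, rfl⟩
        show g * v * g⁻¹ ∈ U1 ⊔ U2
        rw [opD_conj (h.mul_self ha) (h.mul_self hv.1)]
        exact Subgroup.mul_mem _ (Subgroup.mem_sup_left (hm.comm_le h ha hv)) (Subgroup.mem_sup_right hv)
    · refine sup_le ?_ ?_
      · rintro _ ⟨u, hu, rfl⟩
        show g * u * g⁻¹ ∈ U1 ⊔ U2
        rw [opD_conj (h.mul_self ha') (h.mul_self hu.1)]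
        exact Subgroup.mul_mem _ (Subgroup.mem_sup_right (hm'.comm_le h ha' hu)) (Subgroup.mem_sup_left hu)
      · rintro _ ⟨v, hv, rfl⟩
        show g * v * g⁻¹ ∈ U1 ⊔ U2
        rw [h.comm ha' hv.1, mul_inv_cancel_right]
        exact Subgroup.mem_sup_right hv
  have haN := hnorm a (Or.inl rfl)
  have hcN := Subgroup.mul_mem _ haN (hnorm a' (Or.inr rfl))
  refine SFourOffender.involves_of_inverting_action hW2 haN (Subgroup.mul_mem _ hcN hcN)
    (by rw [h.mul_self ha]; exact one_mem _) hy6 ?_ hy2C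
  have e : a * y2 * a⁻¹ * y2 = 1 := by
    have hA := h.mul_self ha
    have hA' := h.mul_self ha'
    rw [hai, hy2, hcd]
    calc a * (a * a' * (a * a')) * a * (a * a' * (a * a'))
        = (a * a) * a' * a * a' * (a * a) * a' * a * a' := by group
      _ = a' * a * (a' * a') * a * a' := by rw [hA]; group
      _ = a' * (a * a) * a' := by rw [hA']; group
      _ = 1 := by rw [hA, mul_one, hA']
  rw [e]; exact one_mem _

end

/-- Strong closure in `N(A)`. -/
theorem meet_normalizer_le {G : Type u} [Group G] [Finite G] (hfree : ¬ Cfsg.Involves (Equiv.Perm (Fin 4)) G)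
    {S : Sylow 2 G} {A : Subgroup G} (h : Setting S A) (g : G) :
    cj g A ⊓ Subgroup.normalizer (A : Set G) ≤ A := by
  by_contra hbad
  have hb : Bad A (1 : G) g := by
    unfold Bad meetN
    rwa [cj_one]
  obtain ⟨p, hp, hpmin⟩ := Set.exists_min_image {p : G × G | Bad A p.1 p.2}
    (fun p => Nat.card (joinJ S p.1 p.2)) (Set.toFinite _) ⟨(1, g), hb⟩
  obtain ⟨q, ⟨hq, hqc⟩, hqmin⟩ := Set.exists_min_image
    {q : G × G | Bad A q.1 q.2 ∧ Nat.card (joinJ S q.1 q.2) = Nat.card (joinJ S p.1 p.2)}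
    (fun q => meas A q.1 q.2) (Set.toFinite _) ⟨p, hp, rfl⟩
  refine hfree (MinBad.involves h.pair h.hyp.bound (x := q.1) (y := q.2) ⟨hq, fun x' y' hlt hb' => ?_⟩)
  rcases hlt with hlt | ⟨heq, hlt⟩
  · exact (hlt.trans_le hqc.le).not_ge (hpmin (x', y') hb')
  · exact hlt.not_ge (hqmin (x', y') ⟨hb', heq.trans hqc⟩)

end Cfsg.Agent.SFourClosed
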