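import Cfsg.Agent.Lib.SFourClosed.Range

/-!
The action on a factor `X / X₀` of an elementary abelian normal 2-subgroup.

Main results (namespace `Cfsg.Agent.SFourClosed`):
* `stab X Y`: the elements with `[g, X] ⊆ Y`; `mem_stab`, `le_stab_comm`;
* `sec_reduced`: on a chief factor the induced group has trivial 2-core;
* `sec_bound`, `sec_bound_of_reduced`: the 2F bound for a factor, `(stab X X₀).relIndex R ^ 2 ≤ (stab R X₀).relIndex X`.
-/

set_option autoImplicit false
set_option linter.unusedSectionVars false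
set_option linter.style.haveILetI false

namespace Cfsg.Agent.SFourClosed

open AlperinFamily

universe u

section
variable {G : Type*} [Group G]

/-- The elements `g` with `[g, X] ⊆ Y`. -/
def stab (X Y : Subgroup G) [Y.Normal] : Subgroup G :=
  (Subgroup.centralizer ((X.map (QuotientGroup.mk' Y) : Subgroup (G ⧸ Y)) : Set (G ⧸ Y))).comap
    (QuotientGroup.mk' Y)

theorem mem_stab {X Y : Subgroup G} [Y.Normal] {g : G} :
    g ∈ stab X Y ↔ ∀ x ∈ X, g * x * g⁻¹ * x⁻¹ ∈ Y := by
  simp only [stab, Subgroup.mem_comap, Subgroup.mem_centralizer_iff]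
  constructor
  · intro h x hx
    rw [← QuotientGroup.eq_one_iff]
    show QuotientGroup.mk' Y (g * x * g⁻¹ * x⁻¹) = 1
    rw [map_mul, map_mul, map_mul, ← h _ ⟨x, hx, rfl⟩, map_inv, map_inv, mul_inv_cancel_right, mul_inv_cancel]
  · rintro h _ ⟨x, hx, rfl⟩
    have h1 : QuotientGroup.mk' Y (g * x * g⁻¹ * x⁻¹) = 1 := (QuotientGroup.eq_one_iff _).2 (h x hx)
    rw [map_mul, map_mul, map_mul, map_inv, map_inv, mul_inv_eq_one, mul_inv_eq_iff_eq_mul] at h1
    exact h1.symm

theorem le_stab_comm {X X' Y : Subgroup G} [Y.Normal] : X' ≤ stab X Y ↔ X ≤ stab X' Y := by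
  unfold stab
  rw [← Subgroup.map_le_iff_le_comap, ← Subgroup.map_le_iff_le_comap, Subgroup.le_centralizer_iff]

theorem centralizer_le_stab (X Y : Subgroup G) [Y.Normal] : Subgroup.centralizer (X : Set G) ≤ stab X Y :=
  fun g hg => mem_stab.2 fun x hx => by
    rw [show g * x = x * g from (Subgroup.mem_centralizer_iff.1 hg x hx).symm, mul_inv_cancel_right, mul_inv_cancel]
    exact Y.one_mem

instance stab_normal (X Y : Subgroup G) [X.Normal] [Y.Normal] : (stab X Y).Normal :=
  haveI := Subgroup.Normal.map (inferInstance : X.Normal) (QuotientGroup.mk' Y) (QuotientGroup.mk'_surjective Y)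
  Subgroup.Normal.comap Subgroup.normal_centralizer _

theorem inf_le_of_relIndex_eq [Finite G] {H K X : Subgroup G} (hHK : H ≤ K)
    (h : H.relIndex X = K.relIndex X) : K ⊓ X ≤ H := by
  have e := Subgroup.relIndex_inf_mul_relIndex (H := H) (K := K) (L := X)
  rw [inf_eq_left.2 hHK, h] at e
  exact Subgroup.relIndex_eq_one.1
    (Nat.eq_of_mul_eq_mul_right (Nat.pos_of_ne_zero Subgroup.index_ne_zero_of_finite) (e.trans (one_mul _).symm))

/-- The action on `X / X₀`. -/
def secHom (X X0 : Subgroup G) [X.Normal] [X0.Normal] : G →* MulAut (↥X ⧸ X0.subgroupOf X) where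
  toFun g := QuotientGroup.congr (X0.subgroupOf X) (X0.subgroupOf X) (MulAut.conjNormal g) (by
    ext y
    constructor
    · rintro ⟨z, hz, rfl⟩
      show ((MulAut.conjNormal g z : ↥X) : G) ∈ X0
      rw [MulAut.conjNormal_apply]
      exact (inferInstance : X0.Normal).conj_mem _ hz g
    · intro hy
      refine ⟨MulAut.conjNormal g⁻¹ y, ?_, ?_⟩
      · show ((MulAut.conjNormal g⁻¹ y : ↥X) : G) ∈ X0
        rw [MulAut.conjNormal_apply]
        exact (inferInstance : X0.Normal).conj_mem _ hy g⁻¹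
      · show MulAut.conjNormal g (MulAut.conjNormal g⁻¹ y) = y
        rw [← MulAut.mul_apply, ← map_mul, mul_inv_cancel, map_one]
        rfl)
  map_one' := by
    refine MulEquiv.ext fun m => QuotientGroup.induction_on m fun y => ?_
    show ((MulAut.conjNormal (1 : G) y : ↥X) : ↥X ⧸ X0.subgroupOf X) = y
    rw [map_one]; rfl
  map_mul' g h := by
    refine MulEquiv.ext fun m => QuotientGroup.induction_on m fun y => ?_
    show ((MulAut.conjNormal (g * h) y : ↥X) : ↥X ⧸ X0.subgroupOf X) =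
      ((MulAut.conjNormal g (MulAut.conjNormal h y) : ↥X) : ↥X ⧸ X0.subgroupOf X)
    rw [map_mul]; rfl

theorem secHom_fix {X X0 : Subgroup G} [X.Normal] [X0.Normal] {g : G} {x : ↥X} :
    secHom X X0 g (x : ↥X ⧸ X0.subgroupOf X) = (x : ↥X ⧸ X0.subgroupOf X) ↔ g * x * g⁻¹ * (x : G)⁻¹ ∈ X0 := by
  show ((MulAut.conjNormal g x : ↥X) : ↥X ⧸ X0.subgroupOf X) = x ↔ _
  rw [QuotientGroup.eq_iff_div_mem, Subgroup.mem_subgroupOf, Subgroup.coe_div, MulAut.conjNormal_apply,
    div_eq_mul_inv]

theorem secHom_ker (X X0 : Subgroup G) [X.Normal] [X0.Normal] : (secHom X X0).ker = stab X X0 := by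
  ext g
  rw [MonoidHom.mem_ker, mem_stab]
  refine ⟨fun h x hx => secHom_fix.1 (DFunLike.congr_fun h ((⟨x, hx⟩ : ↥X) : ↥X ⧸ X0.subgroupOf X)),
    fun h => MulEquiv.ext fun m => QuotientGroup.induction_on m fun x => secHom_fix.2 (h x x.2)⟩

/-- On a chief factor of an abelian 2-group the induced group has trivial 2-core. -/
theorem sec_reduced [Finite G] (X X0 : Subgroup G) [X.Normal] [X0.Normal] (hX : IsPGroup 2 X)
    (hne : ¬ X ≤ X0) (hmax : ∀ Y : Subgroup G, Y.Normal → Y ≤ X → X ≤ Y ∨ Y ≤ X0) :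
    Cfsg.pCore 2 ↥(secHom X X0).range = ⊥ := by
  haveI : Fact (Nat.Prime 2) := ⟨Nat.prime_two⟩
  set φ := secHom X X0
  set Q := Cfsg.pCore 2 ↥φ.range
  have hQn : Q.Normal := Cores.pCore_normal 2 _
  have hQp : IsPGroup 2 Q := Cores.isPGroup_pCore 2 _
  haveI : Finite (↥X ⧸ X0.subgroupOf X) := inferInstance
  letI act : MulAction ↥Q (↥X ⧸ X0.subgroupOf X) :=
    { smul := fun q v => ((q : ↥φ.range) : MulAut (↥X ⧸ X0.subgroupOf X)) v
      one_smul := fun _ => rfl
      mul_smul := fun _ _ _ => rfl }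
  have hdvd : 2 ∣ Nat.card (↥X ⧸ X0.subgroupOf X) := by
    haveI : (X0.subgroupOf X).Normal := inferInstance
    obtain ⟨n, hn⟩ := IsPGroup.iff_card.1 (hX.to_quotient (X0.subgroupOf X))
    rw [hn]
    refine dvd_pow_self 2 fun h => hne ?_
    rw [h, pow_zero, ← Subgroup.index_eq_card, Subgroup.index_eq_one, Subgroup.subgroupOf_eq_top] at hn
    exact hn
  obtain ⟨m, hm, hm1⟩ := hQp.exists_fixed_point_of_prime_dvd_card_of_fixed_point _ hdvd (a := 1)
    (fun q => map_one ((q : ↥φ.range) : MulAut (↥X ⧸ X0.subgroupOf X)))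
  set F : Subgroup (↥X ⧸ X0.subgroupOf X) :=
    { carrier := {v | ∀ q ∈ Q, ((q : ↥φ.range) : MulAut (↥X ⧸ X0.subgroupOf X)) v = v}
      one_mem' := fun _ _ => map_one _
      mul_mem' := fun {a b} ha hb q hq => by rw [map_mul, ha q hq, hb q hq]
      inv_mem' := fun {a} ha q hq => by rw [map_inv, ha q hq] }
  set XP := (F.comap (QuotientGroup.mk' (X0.subgroupOf X))).map X.subtype
  have hXPn : XP.Normal := by
    refine ⟨?_⟩
    rintro _ ⟨y, hy, rfl⟩ g
    refine ⟨MulAut.conjNormal g y, fun q hq => ?_, MulAut.conjNormal_apply g y⟩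
    have h1 : φ.rangeRestrict g⁻¹ * q * φ.rangeRestrict g ∈ Q := by
      simpa using hQn.conj_mem q hq (φ.rangeRestrict g⁻¹)
    have h2 := hy _ h1
    show (q : MulAut (↥X ⧸ X0.subgroupOf X)) (φ g (y : ↥X ⧸ X0.subgroupOf X)) = φ g y
    have h3 : φ g (φ g⁻¹ ((q : MulAut (↥X ⧸ X0.subgroupOf X)) (φ g (y : ↥X ⧸ X0.subgroupOf X)))) = φ g y :=
      congrArg (φ g) h2
    rwa [← MulAut.mul_apply, ← map_mul, mul_inv_cancel, map_one] at h3
  have hall : X ≤ XP := by
    refine (hmax XP hXPn (Subgroup.map_subtype_le _)).resolve_right fun hle => hm1 ?_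
    obtain ⟨y, rfl⟩ := QuotientGroup.mk'_surjective _ m
    refine ((QuotientGroup.eq_one_iff y).2 (hle ⟨y, fun q hq => hm ⟨q, hq⟩, rfl⟩)).symm
  rw [eq_bot_iff]
  intro q hq
  refine Subgroup.mem_bot.2 (Subtype.ext (MulEquiv.ext fun v => QuotientGroup.induction_on v fun y => ?_))
  obtain ⟨y', hy', he⟩ := hall y.2
  obtain rfl : y' = y := Subtype.ext he
  exact hy' q hq

end

/-- The 2F bound for a factor on which the induced group is reduced. -/
theorem sec_bound_of_reduced {G : Type u} [Group G] [Finite G] (hfree : ¬ Cfsg.Involves (Equiv.Perm (Fin 4)) G)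
    (hsec : SecBound G) {B : Subgroup G} [B.Normal] (hBe : Cfsg.IsElementaryAbelian 2 B) (X X0 : Subgroup G) [X.Normal] [X0.Normal] (hXB : X ≤ B)
    (hred : Cfsg.pCore 2 ↥(secHom X X0).range = ⊥) {R : Subgroup G}
    (hR : Cfsg.IsElementaryAbelian 2 R) :
    (stab X X0).relIndex R ^ 2 ≤ (stab R X0).relIndex X := by
  have hXe : Cfsg.IsElementaryAbelian 2 X := PLocal.elemAb_mono hBe hXB
  have hker : Subgroup.centralizer (B : Set G) ≤ (secHom X X0).rangeRestrict.ker := by
    rw [MonoidHom.ker_rangeRestrict, secHom_ker]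
    exact (Subgroup.centralizer_le hXB).trans (centralizer_le_stab X X0)
  have hB := hsec.image hfree hBe (secHom X X0).rangeRestrict (secHom X X0).rangeRestrict_surjective hker
    hred
  have h3 := bound_of_actBound (secHom X X0) ?_ ?_ hB R
    (fun r hr s hs => by rw [← map_mul, ← map_mul, JComp.elem_comm hR hr hs])
    (fun r hr => by rw [← map_mul, JComp.elem_mul_self hR hr, map_one])
  · rw [secHom_ker, ← Subgroup.index_comap_of_surjective _ (QuotientGroup.mk'_surjective (X0.subgroupOf X))]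
      at h3
    refine h3.trans (le_of_eq ?_)
    show _ = ((stab R X0).subgroupOf X).index
    congr 1
    ext x
    constructor
    · intro hx
      refine mem_stab.2 fun r hr => ?_
      have h := X0.inv_mem (secHom_fix.1 (hx r hr))
      simpa [mul_inv_rev, mul_assoc] using h
    · intro hx r hr
      refine secHom_fix.2 ?_
      simpa [mul_inv_rev, mul_assoc] using X0.inv_mem (mem_stab.1 hx r hr)
  · intro v w
    induction v using QuotientGroup.induction_on with | _ v => ?_
    induction w using QuotientGroup.induction_on with | _ w => ?_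
    rw [← QuotientGroup.mk_mul, ← QuotientGroup.mk_mul]
    exact congrArg _ (Subtype.ext (JComp.elem_comm hXe v.2 w.2))
  · intro v
    induction v using QuotientGroup.induction_on with | _ v => ?_
    rw [← QuotientGroup.mk_mul, show v * v = 1 from Subtype.ext (JComp.elem_mul_self hXe v.2), QuotientGroup.mk_one]

/-- The 2F bound for a chief factor. -/
theorem sec_bound {G : Type u} [Group G] [Finite G] (hfree : ¬ Cfsg.Involves (Equiv.Perm (Fin 4)) G)
    (hsec : SecBound G) (S : Sylow 2 G) {B : Subgroup G} [B.Normal] (hBe : Cfsg.IsElementaryAbelian 2 B)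
    (_hBS : B ≤ (S : Subgroup G)) (X X0 : Subgroup G) [X.Normal] [X0.Normal] (hXB : X ≤ B)
    (hne : ¬ X ≤ X0) (hmax : ∀ Y : Subgroup G, Y.Normal → Y ≤ X → X ≤ Y ∨ Y ≤ X0) {R : Subgroup G}
    (hR : Cfsg.IsElementaryAbelian 2 R) :
    (stab X X0).relIndex R ^ 2 ≤ (stab R X0).relIndex X :=
  sec_bound_of_reduced hfree hsec hBe X X0 hXB
    (sec_reduced X X0 (PLocal.elemAb_isPGroup (PLocal.elemAb_mono hBe hXB)) hne hmax) hR

end Cfsg.Agent.SFourClosed
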