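import Cfsg.Agent.Lib.SFourClosed.Normal

/-!
Weak closure.

Main results (namespace `Cfsg.Agent.SFourClosed`):
* `cent_jOf`: `J(R) ≤ C(A)` for a 2-subgroup `R` of `N(A)` containing `A`;
* `weakly_closed`, `eq_of_cj_le_normalizer`: `A` is weakly closed in `S`.
-/

set_option autoImplicit false
set_option linter.unusedSectionVars false
set_option linter.style.haveILetI false

namespace Cfsg.Agent.SFourClosed

open AlperinFamily

universe u

section
variable {G : Type u} [Group G] [Finite G]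

theorem relIndex_le_of_maxElem {T A B : Subgroup G} (hAe : Cfsg.IsElementaryAbelian 2 A) (hAT : A ≤ T)
    (hB : B ∈ JComp.maxElem T) :
    (Subgroup.centralizer (B : Set G)).relIndex A ≤ (Subgroup.centralizer (A : Set G)).relIndex B := by
  set E := Subgroup.centralizer (A : Set G) ⊓ B with hE
  set W := A ⊔ E
  have hWe : Cfsg.IsElementaryAbelian 2 W :=
    PLocal.elemAb_sup hAe (PLocal.elemAb_mono hB.2.1 inf_le_right) (le_cent_comm inf_le_left)
  have hcard := hB.2.2 W (sup_le hAT (inf_le_right.trans hB.1)) hWe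
  rw [← card_mul_relIndex (H := E) (K := W) le_sup_right, ← card_mul_relIndex (H := E) (K := B) inf_le_right]
    at hcard
  have h1 : E.relIndex W ≤ E.relIndex B := Nat.le_of_mul_le_mul_left hcard Nat.card_pos
  rw [← Subgroup.inf_relIndex_right (Subgroup.centralizer (A : Set G)) B, ← hE]
  refine le_trans ?_ h1
  refine le_trans (Subgroup.relIndex_le_of_le_left
    (inf_le_right.trans (PLocal.elemAb_le_centralizer hB.2.1)) Subgroup.index_ne_zero_of_finite)
    (Subgroup.relIndex_le_of_le_right le_sup_left Subgroup.index_ne_zero_of_finite)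

theorem cent_jOf {A R : Subgroup G} (hA : Cfsg.IsElementaryAbelian 2 A) (hb : Bound A) (hAR : A ≤ R)
    (hR : R ≤ Subgroup.normalizer (A : Set G)) :
    Cfsg.thompsonSubgroupOf 2 R ≤ Subgroup.centralizer (A : Set G) := by
  refine JComp.jOf_le_iff.2 fun B hB => ?_
  have h1 := hb B (hB.1.trans hR) (PLocal.elemAb_isPGroup hB.2.1)
    (fun r hr s hs => by rw [JComp.elem_comm hB.2.1 hr hs, mul_inv_cancel_right, mul_inv_cancel]; exact one_mem _)
    (fun r hr => by rw [JComp.elem_mul_self hB.2.1 hr]; exact one_mem _)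
  have h2 := h1.trans (relIndex_le_of_maxElem hA hAR hB)
  refine Subgroup.relIndex_eq_one.1 ?_
  have hp : 0 < (Subgroup.centralizer (A : Set G)).relIndex B := Nat.pos_of_ne_zero Subgroup.index_ne_zero_of_finite
  rw [pow_two] at h2
  exact le_antisymm (Nat.le_of_mul_le_mul_left (h2.trans (mul_one _).ge) hp) hp

theorem weak_step (hfree : ¬ Cfsg.Involves (Equiv.Perm (Fin 4)) G) (hsec : SecBound G) (ih : ProperWeak G)
    {S : Sylow 2 G} {A : Subgroup G} (h : Hyp S A) (g : G) (hg : cj g A ≤ (S : Subgroup G)) : cj g A = A := by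
  haveI : Fact (Nat.Prime 2) := ⟨Nat.prime_two⟩
  have hcard : ∀ {H K : Subgroup G}, H < K → Nat.card H < Nat.card K := fun hlt =>
    Set.ncard_lt_ncard hlt (Set.toFinite _)
  suffices key : ∀ n : ℕ,
      (∀ T : Subgroup G, A ≤ T → T ≤ (S : Subgroup G) → Nat.card G ≤ Nat.card T + n →
        ∀ g, cj g T ≤ (S : Subgroup G) → cj g A = A) ∧
      (∀ T : Subgroup G, A ≤ T → T ≤ (S : Subgroup G) →
        Nat.card G ≤ Nat.card ↥((S : Subgroup G) ⊓ Subgroup.normalizer (T : Set G)) + n →
        Subgroup.normalizer (T : Set G) ≤ Subgroup.normalizer (A : Set G)) by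
    exact (key (Nat.card G)).1 A le_rfl h.le (Nat.le_add_left _ _) g hg
  intro n
  induction n using Nat.strong_induction_on with
  | _ n ih' =>
  have hW : ∀ T : Subgroup G, A ≤ T → T ≤ (S : Subgroup G) → Nat.card G ≤ Nat.card T + n →
      ∀ g, cj g T ≤ (S : Subgroup G) → cj g A = A := by
    intro T hAT hTS hn g hgT
    have hSN : ∀ x : G, cj x (S : Subgroup G) = (S : Subgroup G) → cj x A = A := fun x hx =>
      cj_eq_iff.2 (h.normJ (PLocal.normalizer_le_normalizer_thompsonSubgroupOf _ (cj_eq_iff.1 hx)))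
    by_cases hTe : T = (S : Subgroup G)
    · exact hSN g (Subgroup.eq_of_le_of_card_ge (hTe ▸ hgT) (card_cj g _).ge)
    set T' := cj g T with hT'
    have hTe' : T' ≠ (S : Subgroup G) := fun he => hTe (Subgroup.eq_of_le_of_card_ge hTS (by
      rw [← he, hT', card_cj]))
    have hlt := exists_lt_inf_normalizer (p := 2) S.isPGroup' hTS hTe
    have hlt' := exists_lt_inf_normalizer (p := 2) S.isPGroup' hgT hTe'
    set R := (S : Subgroup G) ⊓ Subgroup.normalizer (T : Set G)
    set R' := (S : Subgroup G) ⊓ Subgroup.normalizer (T' : Set G)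
    obtain ⟨x, hxR, hxfn⟩ := exists_conj_into_fn S (S.isPGroup'.to_inf_left : IsPGroup 2 R) inf_le_right
    set T0 := cj x T with hT0
    have c1 := hcard hlt
    have hxA : cj x A = A := (ih' (n - 1) (by have := Subgroup.card_le_card_group R; omega)).1 R
      (hAT.trans hlt.le) inf_le_left (by omega) x hxR
    have hgT' : cj (x * g⁻¹) T' = T0 := by rw [hT', cj_cj, inv_mul_cancel_right]
    obtain ⟨k, hk, hkS, hkT⟩ := exists_conj_sylow_step (S := (S : Subgroup G)) S.isPGroup' hxfn
      (S.isPGroup'.to_inf_left : IsPGroup 2 R') inf_le_right hgT'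
    have hT0S : T0 ≤ (S : Subgroup G) := (Subgroup.map_mono hlt.le).trans hxR
    have hAT0 : A ≤ T0 := hxA ▸ Subgroup.map_mono hAT
    set u := k * (x * g⁻¹) with hu
    have c2 : Nat.card T < Nat.card ↥(cj u R') := by
      rw [card_cj, ← card_cj g T]; exact hcard hlt'
    have huA : cj u⁻¹ A = A := (ih' (n - 1) (by have := Subgroup.card_le_card_group (cj u R'); omega)).1 (cj u R')
      (hAT0.trans (hkT ▸ Subgroup.map_mono hlt'.le)) hkS (by omega) u⁻¹
      (by rw [cj_cj, inv_mul_cancel, cj_one]; exact inf_le_left)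
    have c3 : Nat.card T < Nat.card ↥((S : Subgroup G) ⊓ Subgroup.normalizer (T0 : Set G)) := by
      rw [← card_cj x T]
      refine hcard (exists_lt_inf_normalizer (p := 2) S.isPGroup' hT0S fun he => hTe ?_)
      exact Subgroup.eq_of_le_of_card_ge hTS (by rw [← he, card_cj])
    have hkA : cj k A = A := cj_eq_iff.2 ((ih' (n - 1) (by
      have := Subgroup.card_le_card_group ((S : Subgroup G) ⊓ Subgroup.normalizer (T0 : Set G)); omega)).2
        T0 hAT0 hT0S (by omega) hk)
    have e : g = u⁻¹ * (k * x) := by rw [hu]; group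
    rw [e, ← cj_cj, ← cj_cj, hxA, hkA, huA]
  refine ⟨hW, ?_⟩
  intro T hAT hTS hn
  set R := (S : Subgroup G) ⊓ Subgroup.normalizer (T : Set G)
  have hTR : T ≤ R := le_inf hTS Subgroup.le_normalizer
  obtain ⟨x, hxR, hxfn⟩ := exists_conj_into_fn S (S.isPGroup'.to_inf_left : IsPGroup 2 R) inf_le_right
  have hxA : cj x A = A := hW R (hAT.trans hTR) inf_le_left hn x hxR
  set T0 := cj x T with hT0
  have hAT0 : A ≤ T0 := hxA ▸ Subgroup.map_mono hAT
  have hT0S : T0 ≤ (S : Subgroup G) := (Subgroup.map_mono hTR).trans hxR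
  set H := Subgroup.normalizer (T0 : Set G) with hH
  set R1 := (S : Subgroup G) ⊓ H
  have hR1 : Nat.card R ≤ Nat.card R1 := by
    rw [← card_cj x R]
    refine Subgroup.card_le_of_le (le_inf hxR ?_)
    exact cj_le_normalizer x inf_le_right
  suffices hmain : H ≤ Subgroup.normalizer (A : Set G) by
    intro y hy
    have h1 : cj (x * y * x⁻¹) A = A := cj_eq_iff.2 (hmain (cj_le_normalizer x le_rfl (conj_mem_cj x hy)))
    have h2 := congrArg (cj x⁻¹) h1
    have hxA' : cj x⁻¹ A = A := by conv_lhs => rw [← hxA, cj_cj, inv_mul_cancel, cj_one]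
    rw [hxA', cj_cj, show x⁻¹ * (x * y * x⁻¹) = y * x⁻¹ by group, ← cj_cj, hxA'] at h2
    exact cj_eq_iff.1 h2
  have hAR1 : A ≤ R1 := le_inf h.le (hAT0.trans Subgroup.le_normalizer)
  set J1 := Cfsg.thompsonSubgroupOf 2 R1
  have hJc : J1 ≤ Subgroup.centralizer (A : Set G) := cent_jOf h.elem h.bound hAR1 (inf_le_left.trans h.norm)
  have hJn : Subgroup.normalizer (J1 : Set G) ≤ Subgroup.normalizer (A : Set G) := by
    by_cases hRS : R1 = (S : Subgroup G)
    · simp only [J1, hRS]; exact h.normJ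
    have hlt := exists_lt_inf_normalizer (p := 2) S.isPGroup' (inf_le_left : R1 ≤ (S : Subgroup G)) hRS
    have c1 : Nat.card R1 < Nat.card ↥((S : Subgroup G) ⊓ Subgroup.normalizer (J1 : Set G)) :=
      (hcard hlt).trans_le (Subgroup.card_le_of_le
        (inf_le_inf_left _ (PLocal.normalizer_le_normalizer_thompsonSubgroupOf _)))
    exact (ih' (n - 1) (by
      have := Subgroup.card_le_card_group ((S : Subgroup G) ⊓ Subgroup.normalizer (J1 : Set G)); omega)).2 J1
        (le_jOf_of_cent h.elem hAR1 hJc) ((JComp.jOf_le _).trans inf_le_left) (by omega)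
  by_cases hHt : H = ⊤
  · haveI := normal_of_le_normal hfree hsec ih h
      (Subgroup.normalizer_eq_top_iff.1 hHt : T0.Normal) (S.isPGroup'.to_le hT0S) hAT0
    exact le_top.trans (Subgroup.normalizer_eq_top A).ge
  obtain ⟨P, hP⟩ := JComp.exists_sylow (T := R1) (L := H)
    ⟨inf_le_right, S.isPGroup'.to_inf_left, Nat.not_even_iff_odd.1 fun he => hxfn (even_iff_two_dvd.1 he)⟩
  have hyp := h.restrict P (hP.symm ▸ hAR1) (hP.symm ▸ hJc) (hP.symm ▸ inf_le_left.trans h.norm)
    (hP.symm ▸ inf_le_right.trans hJn)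
  intro y hy
  have hAH : A ≤ H := hAR1.trans inf_le_right
  have he : (cj (⟨y, hy⟩ : H) (A.subgroupOf H)).map H.subtype = cj y A := by
    rw [Subgroup.map_map]
    conv_rhs => rw [← Subgroup.map_subgroupOf_eq_of_le hAH, cj, Subgroup.map_map]
    rfl
  have hle : cj (⟨y, hy⟩ : H) (A.subgroupOf H) ≤ (P : Subgroup H) := by
    rw [← Subgroup.map_le_map_iff_of_injective H.subtype_injective, he, hP]
    refine le_trans ?_ (le_inf hT0S Subgroup.le_normalizer)
    exact (Subgroup.map_mono hAT0).trans (cj_eq_iff.2 hy).le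
  have := congrArg (Subgroup.map H.subtype) (ih H hHt P _ hyp ⟨y, hy⟩ hle)
  rw [he, Subgroup.map_subgroupOf_eq_of_le hAH] at this
  exact cj_eq_iff.1 this

end

/-- `A` is weakly closed. -/
theorem weakly_closed : ∀ (n : ℕ) {G : Type u} [Group G] [Finite G], Nat.card G ≤ n →
    ¬ Cfsg.Involves (Equiv.Perm (Fin 4)) G → SecBound G → ∀ {S : Sylow 2 G} {A : Subgroup G}, Hyp S A →
      ∀ g : G, cj g A ≤ (S : Subgroup G) → cj g A = A := by
  intro n
  induction n with
  | zero => intro G _ _ hn; exact absurd hn (Nat.card_pos (α := G)).not_ge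
  | succ n ih =>
    intro G _ _ hn hfree hsec S A h g hg
    refine weak_step hfree hsec (fun H hH P B hB => ?_) h g hg
    refine ih ?_ (not_involves_subgroup hfree H) (hsec.subgroup H) hB
    have h1 : Nat.card H < Nat.card (⊤ : Subgroup G) := Set.ncard_lt_ncard (lt_top_iff_ne_top.2 hH : H < ⊤) (Set.toFinite _)
    rw [Subgroup.card_top] at h1
    omega

theorem eq_of_cj_le_normalizer {G : Type u} [Group G] [Finite G] (hfree : ¬ Cfsg.Involves (Equiv.Perm (Fin 4)) G)
    (hsec : SecBound G) {S : Sylow 2 G} {A : Subgroup G} (h : Hyp S A) {g : G}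
    (hg : cj g A ≤ Subgroup.normalizer (A : Set G)) : cj g A = A := by
  haveI : Fact (Nat.Prime 2) := ⟨Nat.prime_two⟩
  have hS : Fusion.IsSylowIn 2 (S : Subgroup G) (Subgroup.normalizer (A : Set G)) :=
    ⟨h.norm, S.isPGroup', fun _ h1 _ h3 => S.is_maximal' h3 h1⟩
  obtain ⟨k, hk, hkA⟩ := hS.exists_conj_le ((PLocal.elemAb_isPGroup h.elem).map _) hg
  have h1 := weakly_closed (Nat.card G) le_rfl hfree hsec h (k * g) (by
    rw [← cj_cj]; rintro _ ⟨x, hx, rfl⟩; exact hkA x hx)
  rw [← cj_cj] at h1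
  have h2 := congrArg (cj k⁻¹) h1
  rw [cj_cj, inv_mul_cancel, cj_one] at h2
  exact h2.trans (cj_eq_iff.2 (inv_mem hk))

end Cfsg.Agent.SFourClosed
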